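import Groth.Agent.Lib.Helper23.Formal.AdicLimit
import Mathlib.RingTheory.AdicCompletion.Functoriality
import Mathlib.RingTheory.Noetherian.Basic

/-!
# Adic towers: the kernel of the projection, Hausdorffness and finiteness of the limit (helper23)
-/

set_option autoImplicit false

namespace Groth.Agent.Lib.Helper23.AdicLimit

open Finset

section Pi

variable {A : Type*} [CommRing A] (I : Ideal A) {ι : Type*} [Fintype ι] [DecidableEq ι]
  {N : Type*} [AddCommGroup N] [Module A N]

lemma mem_smul_top_pi_iff (J : Ideal A) (x : ι → N) :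
    x ∈ J • (⊤ : Submodule A (ι → N)) ↔ ∀ i, x i ∈ J • (⊤ : Submodule A N) := by
  constructor
  · intro hx i
    have h1 : LinearMap.proj (R := A) (φ := fun _ : ι => N) i x ∈
        Submodule.map (LinearMap.proj (R := A) (φ := fun _ : ι => N) i)
          (J • (⊤ : Submodule A (ι → N))) := Submodule.mem_map_of_mem hx
    rw [Submodule.map_smul''] at h1
    exact Submodule.smul_mono le_rfl le_top h1
  · intro hx
    have h0 : x = ∑ i, Pi.single i (x i) := (Finset.univ_sum_single x).symm
    rw [h0]
    refine Submodule.sum_mem _ fun i _ => ?_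
    have h1 : LinearMap.single A (fun _ : ι => N) i (x i) ∈
        Submodule.map (LinearMap.single A (fun _ : ι => N) i) (J • (⊤ : Submodule A N)) :=
      Submodule.mem_map_of_mem (hx i)
    rw [Submodule.map_smul''] at h1
    exact Submodule.smul_mono le_rfl le_top h1

instance isPrecomplete_pi [IsPrecomplete I N] : IsPrecomplete I (ι → N) := by
  constructor
  intro f hf
  have hc : ∀ i, ∃ L : N, ∀ n, f n i ≡ L [SMOD (I ^ n • ⊤ : Submodule A N)] := by
    intro i
    refine IsPrecomplete.prec' (fun n => f n i) ?_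
    intro m n hmn
    have := hf hmn
    rw [SModEq.sub_mem] at this ⊢
    exact (mem_smul_top_pi_iff (I ^ m) _).1 this i
  choose L hL using hc
  refine ⟨L, fun n => ?_⟩
  rw [SModEq.sub_mem, mem_smul_top_pi_iff]
  intro i
  have := hL i n
  rw [SModEq.sub_mem] at this
  exact this

end Pi

section Finite

variable {A : Type*} [CommRing A] [IsNoetherianRing A] (I : Ideal A) [IsPrecomplete I A]
  {N : Type*} [AddCommGroup N] [Module A N]

/-- complete Nakayama: a Hausdorff module over a complete ring with `N / I N` finite is finite -/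
theorem finite_of_isHausdorff_of_finite_quotient [IsHausdorff I N]
    [Module.Finite A (N ⧸ (I • ⊤ : Submodule A N))] : Module.Finite A N := by
  classical
  obtain ⟨r, s, hs⟩ := Module.Finite.exists_fin (R := A) (M := N ⧸ (I • ⊤ : Submodule A N))
  have hlift : ∀ i, ∃ y : N, (I • ⊤ : Submodule A N).mkQ y = s i := fun i =>
    Submodule.mkQ_surjective _ (s i)
  choose y hy using hlift
  let f : (Fin r → A) →ₗ[A] N := Fintype.linearCombination A y
  have hsurj : Function.Surjective ((I • ⊤ : Submodule A N).mkQ ∘ₗ f) := by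
    rw [← LinearMap.range_eq_top, eq_top_iff, ← hs, Submodule.span_le]
    rintro _ ⟨i, rfl⟩
    refine ⟨Pi.single i 1, ?_⟩
    rw [LinearMap.comp_apply, Fintype.linearCombination_apply_single, one_smul, hy]
  have := surjective_of_mkQ_comp_surjective (I := I) hsurj
  exact Module.Finite.of_surjective f this

end Finite

section Limit

variable {A : Type*} [CommRing A] {M : ℕ → Type*} [∀ m, AddCommGroup (M m)] [∀ m, Module A (M m)]
  (T : ∀ k m : ℕ, k ≤ m → (M m →ₗ[A] M k))
  (T_refl : ∀ m (x : M m), T m m le_rfl x = x)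
  (T_trans : ∀ (k l m : ℕ) (h₁ : k ≤ l) (h₂ : l ≤ m) (x : M m),
    T k l h₁ (T l m h₂ x) = T k m (h₁.trans h₂) x)
  (hsurj : ∀ m, Function.Surjective (T m (m + 1) (Nat.le_succ m)))
  (I : Ideal A) (hkill : ∀ m, I ^ (m + 1) • (⊤ : Submodule A (M m)) = ⊥)
  (hker : ∀ m (x : M (m + 1)), T m (m + 1) (Nat.le_succ m) x = 0 →
    x ∈ I ^ (m + 1) • (⊤ : Submodule A (M (m + 1))))

include T_refl T_trans hsurj hkill hker in
theorem ker_p_eq (hI : I.FG) (n : ℕ) :
    LinearMap.ker (p T n) = I ^ (n + 1) • (⊤ : Submodule A (L T)) := by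
  apply le_antisymm
  · intro x hx
    obtain ⟨r, b, y, hb, hy, hxy⟩ := main T T_refl T_trans hsurj I hkill hker hI n x.1 x.2 hx
    have : x = ∑ j, b j • (⟨y j, hy j⟩ : L T) := by
      apply Subtype.ext
      funext m
      rw [hxy m]
      simp [Submodule.coe_sum, Finset.sum_apply]
    rw [this]
    exact Submodule.sum_mem _ fun j _ => Submodule.smul_mem_smul (hb j) Submodule.mem_top
  · intro w hw
    exact p_eq_zero_of_mem_smul_top T I hkill (le_refl (n + 1)) hw

include hkill in
theorem isHausdorff_L : IsHausdorff I (L T) := by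
  constructor
  intro x hx
  apply Subtype.ext
  funext m
  have h1 := hx (m + 1)
  rw [SModEq.sub_mem, sub_zero] at h1
  exact p_eq_zero_of_mem_smul_top T I hkill (le_refl (m + 1)) h1

include T_refl T_trans hsurj hkill hker in
theorem finite_L [IsNoetherianRing A] [IsPrecomplete I A] (h0 : Module.Finite A (M 0)) :
    Module.Finite A (L T) := by
  haveI := isHausdorff_L T I hkill
  have hI : I.FG := IsNoetherian.noetherian I
  have hk := ker_p_eq T T_refl T_trans hsurj I hkill hker hI 0
  rw [zero_add, pow_one] at hk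
  let g : (L T ⧸ (I • ⊤ : Submodule A (L T))) →ₗ[A] M 0 :=
    (I • ⊤ : Submodule A (L T)).liftQ (p T 0) (le_of_eq hk.symm)
  have hg : Function.Injective g := by
    rw [← LinearMap.ker_eq_bot, Submodule.ker_liftQ, hk, Submodule.mkQ_map_self]
  haveI : Module.Finite A (L T ⧸ (I • ⊤ : Submodule A (L T))) := Module.Finite.of_injective g hg
  exact finite_of_isHausdorff_of_finite_quotient I

end Limit

end Groth.Agent.Lib.Helper23.AdicLimit
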