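import Groth.Agent.Lib.Helper23.Formal.ProIso
import Groth.Agent.Lib.Helper17.CohKer
import Groth.Agent.Lib.Helper16.QCohSigma

/-!
# The completion system `(M / I^(n+1) M)` (helper23)
-/

set_option autoImplicit false
universe u
open CategoryTheory CategoryTheory.Limits AlgebraicGeometry Opposite

namespace Groth.Agent.Lib.Helper23.FQuot

variable {A : Type u} [CommRing A] {X : Scheme.{u}} [X.Over (Spec (CommRingCat.of A))]

theorem IsQuot.of_epi_comp {J : Ideal A} {M N P : X.Modules} {p : M ⟶ N} {r : N ⟶ P} [Epi p]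
    (h : IsQuot J (p ≫ r)) : IsQuot J r := by
  haveI := h.epi
  refine ⟨epi_of_epi p r, ?_, ?_⟩
  · intro a ha
    rw [← cancel_epi p, ← Category.assoc, ← smulMod_naturality, Category.assoc, h.zero a ha,
      comp_zero]
  · intro T g hg
    obtain ⟨g', hg'⟩ := h.fac (p ≫ g) (fun a ha => by
      rw [← Category.assoc, smulMod_naturality, Category.assoc, hg a ha, comp_zero])
    refine ⟨g', ?_⟩
    rw [← cancel_epi p, ← Category.assoc, hg']

theorem completion_map_succ (I : Ideal A) (M : X.Modules) (n : ℕ) :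
    (Formal.completion I M).map (homOfLE (Nat.le_succ n)).op = Formal.modPowTrans I (n + 1) M :=
  Functor.ofOpSequence_map_homOfLE_succ _ n

theorem isQuot_modPowTrans (I : Ideal A) (M : X.Modules) (n : ℕ) :
    IsQuot (I ^ n) (Formal.modPowTrans I n M) := by
  have h := isQuot_modPowπ I n M
  rw [← Formal.modPowπ_trans I n M] at h
  exact h.of_epi_comp

theorem isFormalSys_completion (I : Ideal A) (M : X.Modules) :
    IsFormalSys I (Formal.completion I M) := by
  refine ⟨fun n => (isQuot_modPowπ I (n + 1) M).killed, fun n => ?_⟩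
  rw [completion_map_succ]
  exact isQuot_modPowTrans I M (n + 1)

theorem isCoh_modPow (I : Ideal A) (n : ℕ) (M : X.Modules) (hM : Coh.IsCoh M) :
    Coh.IsCoh (Formal.modPow I n M) := by
  haveI : M.IsQuasicoherent := hM.1
  haveI : SheafOfModules.IsFiniteType.{u} (R := X.ringCatSheaf) M := hM.2
  haveI : (∐ fun _ : (I ^ n : Ideal A) => M).IsQuasicoherent :=
    Groth.Agent.Lib.Helper16.QCohSigma.isQuasicoherent_sigma _
  refine ⟨?_, ?_⟩
  · exact Groth.Agent.Lib.Helper17.CohKer.isQuasicoherent_cokernel (Formal.smulFamily (I ^ n) M)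
  · exact Groth.Agent.Lib.Helper17.CohKer.isFiniteType_cokernel (Formal.smulFamily (I ^ n) M)

theorem isCohFormal_completion (I : Ideal A) (M : X.Modules) (hM : Coh.IsCoh M) :
    Formal.IsCohFormal I (Formal.completion I M) := by
  have h := isFormalSys_completion I M
  exact ⟨fun n => isCoh_modPow I (n + 1) M hM, h.1, fun n => (isQuot_iff _ _).1 (h.2 n)⟩

/-- a system of compatible `I^(n+1)`-quotients of `M` is the completion of `M` -/
theorem nonempty_completion_iso {I : Ideal A} (M : X.Modules) (H : ℕᵒᵖ ⥤ X.Modules)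
    (q : ∀ n, M ⟶ H.obj (op n)) (hq : ∀ n, IsQuot (I ^ (n + 1)) (q n))
    (hcompat : ∀ n, q (n + 1) ≫ H.map (homOfLE (Nat.le_succ n)).op = q n) :
    Nonempty (Formal.completion I M ≅ H) := by
  have hzero : ∀ n, Formal.smulFamily (I ^ (n + 1)) M ≫ q n = 0 := fun n =>
    ((isQuot_iff _ _).1 (hq n)).1
  have hdiso : ∀ n, IsIso (cokernel.desc _ (q n) (hzero n)) := fun n =>
    ((isQuot_iff _ _).1 (hq n)).2
  have hnat : ∀ n, Formal.modPowTrans I (n + 1) M ≫
      cokernel.desc (Formal.smulFamily (I ^ (n + 1)) M) (q n) (hzero n) =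
      cokernel.desc (Formal.smulFamily (I ^ (n + 1 + 1)) M) (q (n + 1))
        (hzero (n + 1)) ≫ H.map (homOfLE (Nat.le_succ n)).op := by
    intro n
    apply modPow_hom_ext
    refine Eq.trans ?_ (modPowπ_desc_comp I (n + 1 + 1) (q (n + 1))
      (hzero (n + 1)) (H.map (homOfLE (Nat.le_succ n)).op)).symm
    rw [← Category.assoc, Formal.modPowπ_trans, modPowπ_desc, hcompat]
  let τ : Formal.completion I M ⟶ H :=
    NatTrans.ofOpSequence (fun n => cokernel.desc _ (q n) (hzero n)) (by
      intro n
      have e1 : (Formal.completion I M).map (homOfLE (n.le_add_right 1)).op =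
          Formal.modPowTrans I (n + 1) M :=
        Functor.ofOpSequence_map_homOfLE_succ _ n
      rw [e1]
      exact hnat n)
  haveI : IsIso τ := by
    haveI : ∀ k : ℕᵒᵖ, IsIso (τ.app k) := fun k => hdiso k.unop
    exact NatIso.isIso_of_isIso_app τ
  exact ⟨asIso τ⟩

/-- completions of isomorphic modules are isomorphic -/
theorem nonempty_completion_iso_of_iso (I : Ideal A) {M N : X.Modules} (e : M ≅ N) :
    Nonempty (Formal.completion I M ≅ Formal.completion I N) := by
  refine nonempty_completion_iso M (Formal.completion I N)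
    (fun n => e.hom ≫ Formal.modPowπ I (n + 1) N)
    (fun n => (isQuot_modPowπ I (n + 1) N).iso_comp) (fun n => ?_)
  rw [completion_map_succ, Category.assoc]
  congr 1
  exact Formal.modPowπ_trans I (n + 1) N

end Groth.Agent.Lib.Helper23.FQuot
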