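import Groth.Agent.Lib.Helper23.Formal.FormalLimit
import Groth.Agent.Lib.Helper23.Formal.AdicLimit2
import Groth.Agent.Lib.Helper23.Formal.Completion
import Groth.Agent.Lib.Helper28.FinType

/-!
# Coherent formal modules on `Spec A` for `A` Noetherian and `I`-adically complete (helper23)

Every coherent formal module on `Spec A` is the completion of the coherent module attached to the
(finite) module of its global sections.
-/

set_option autoImplicit false
universe u
open CategoryTheory CategoryTheory.Limits AlgebraicGeometry Opposite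

namespace Groth.Agent.Lib.Helper23.FQuot

variable (A : Type u) [CommRing A]

/-- `Spec A` over itself through the identity -/
@[reducible] noncomputable def specOverSelf :
    (Spec (CommRingCat.of A)).Over (Spec (CommRingCat.of A)) := ⟨𝟙 _⟩

attribute [local instance] specOverSelf secModule

theorem toSec_top (a : A) :
    toSec (A := A) (X := Spec (CommRingCat.of A)) ⊤ a =
      (Scheme.ΓSpecIso (CommRingCat.of A)).inv.hom a := by
  unfold toSec Coh.toGlobal
  simp
  show (Scheme.Hom.appTop (𝟙 (Spec (CommRingCat.of A)))).hom _ = _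
  simp

/-- the two `A`-module structures on global sections agree -/
theorem smul_eq_smul (N : (Spec (CommRingCat.of A)).Modules) (a : A) (x : Γ(N, ⊤)) :
    (a • x : Γ(N, ⊤)) =
      (a • (show (moduleSpecΓFunctor (R := CommRingCat.of A)).obj N from x) :
        (moduleSpecΓFunctor (R := CommRingCat.of A)).obj N) := by
  show toSec (A := A) (X := Spec (CommRingCat.of A)) ⊤ a • x = _
  rw [toSec_top]
  rfl

theorem Γ_map_smulMod (N : (Spec (CommRingCat.of A)).Modules) (a : A) :
    (moduleSpecΓFunctor (R := CommRingCat.of A)).map (Formal.smulMod A N a) =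
      a • 𝟙 ((moduleSpecΓFunctor (R := CommRingCat.of A)).obj N) := by
  ext x
  show (Formal.smulMod A N a).app ⊤ x = _
  rw [smulMod_app, smul_eq_smul]
  rfl

section Adj

variable {A}

theorem homEquiv_zero (M : ModuleCat.{u} A) (T : (Spec (CommRingCat.of A)).Modules) :
    (tilde.adjunction (R := CommRingCat.of A)).homEquiv M T 0 = 0 := by
  have h0 : (0 : (tilde.functor (CommRingCat.of A)).obj M ⟶ T) =
      (tilde.functor (CommRingCat.of A)).map (0 : M ⟶ M) ≫ 0 := comp_zero.symm
  rw [h0, Adjunction.homEquiv_naturality_left, zero_comp]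

theorem homEquiv_smulMod_comp {M : ModuleCat.{u} A} {T : (Spec (CommRingCat.of A)).Modules}
    (g : (tilde.functor (CommRingCat.of A)).obj M ⟶ T) (a : A) :
    (tilde.adjunction (R := CommRingCat.of A)).homEquiv M T (Formal.smulMod A _ a ≫ g) =
      a • (tilde.adjunction (R := CommRingCat.of A)).homEquiv M T g := by
  rw [smulMod_naturality, Adjunction.homEquiv_naturality_right, Γ_map_smulMod, Linear.comp_smul,
    Category.comp_id]

/-- transposing a surjection with kernel `J M` along the tilde adjunction gives a `J`-quotient -/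
theorem isQuot_of_tilde {J : Ideal A} {M : ModuleCat.{u} A} {N : (Spec (CommRingCat.of A)).Modules}
    [N.IsQuasicoherent] (hN : Formal.KilledBy J N)
    (p : M ⟶ (moduleSpecΓFunctor (R := CommRingCat.of A)).obj N)
    (hp : Function.Surjective p.hom)
    (hker : LinearMap.ker p.hom ≤ J • (⊤ : Submodule A M)) :
    IsQuot J (((tilde.adjunction (R := CommRingCat.of A)).homEquiv M N).symm p) := by
  have hq : ((tilde.adjunction (R := CommRingCat.of A)).homEquiv M N).symm p =
      (tilde.functor (CommRingCat.of A)).map p ≫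
        (tilde.adjunction (R := CommRingCat.of A)).counit.app N :=
    (tilde.adjunction (R := CommRingCat.of A)).homEquiv_counit M N p
  haveI : IsIso ((tilde.adjunction (R := CommRingCat.of A)).counit.app N) :=
    Scheme.Modules.isIso_fromTildeΓ_of_isQuasicoherent N
  haveI : Epi p := (ModuleCat.epi_iff_surjective p).2 hp
  haveI : (tilde.functor (CommRingCat.of A)).PreservesEpimorphisms :=
    Functor.preservesEpimorphisms_of_adjunction (tilde.adjunction (R := CommRingCat.of A))
  have hepi : Epi (((tilde.adjunction (R := CommRingCat.of A)).homEquiv M N).symm p) := by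
    rw [hq]
    infer_instance
  refine ⟨hepi, ?_, ?_⟩
  · intro a ha
    rw [smulMod_naturality, hN a ha, comp_zero]
  · intro T g hg
    set gf := (tilde.adjunction (R := CommRingCat.of A)).homEquiv M T g with hgf
    have hag : ∀ a ∈ J, a • gf = 0 := by
      intro a ha
      rw [hgf, ← homEquiv_smulMod_comp, hg a ha, homEquiv_zero]
    have hle : LinearMap.ker p.hom ≤ LinearMap.ker gf.hom := by
      refine hker.trans (Submodule.smul_le.2 fun a ha y _ => ?_)
      rw [LinearMap.mem_ker, map_smul]
      have := congrArg (fun φ : M ⟶ (moduleSpecΓFunctor (R := CommRingCat.of A)).obj T => φ.hom y)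
        (hag a ha)
      exact this
    let h : (moduleSpecΓFunctor (R := CommRingCat.of A)).obj N ⟶
        (moduleSpecΓFunctor (R := CommRingCat.of A)).obj T :=
      ModuleCat.ofHom (R := A) (X := (moduleSpecΓFunctor (R := CommRingCat.of A)).obj N)
        (Y := (moduleSpecΓFunctor (R := CommRingCat.of A)).obj T)
        (((LinearMap.ker p.hom).liftQ gf.hom hle).comp
          (LinearMap.quotKerEquivOfSurjective p.hom hp).symm.toLinearMap)
    have hph : p ≫ h = gf := by
      ext x
      show ((LinearMap.ker p.hom).liftQ gf.hom hle)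
        ((LinearMap.quotKerEquivOfSurjective p.hom hp).symm (p.hom x)) = gf.hom x
      have : (LinearMap.quotKerEquivOfSurjective p.hom hp).symm (p.hom x) =
          (LinearMap.ker p.hom).mkQ x := by
        rw [LinearEquiv.symm_apply_eq]
        rfl
      rw [this]
      rfl
    refine ⟨inv ((tilde.adjunction (R := CommRingCat.of A)).counit.app N) ≫
      ((tilde.adjunction (R := CommRingCat.of A)).homEquiv _ T).symm h, ?_⟩
    rw [hq, Category.assoc, IsIso.hom_inv_id_assoc, ← Adjunction.homEquiv_naturality_left_symm, hph,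
      hgf, Equiv.symm_apply_apply]

end Adj

section Coh

variable {A}

/-- free modules of finite rank are of finite type (argument of helper17) -/
theorem isFiniteType_free (Y : Scheme.{u}) (J : Type u) [Finite J] :
    SheafOfModules.IsFiniteType.{u} (R := Y.ringCatSheaf) (SheafOfModules.free.{u} J) := by
  haveI : (SheafOfModules.free.generatingSections (R := Y.ringCatSheaf) J).IsFiniteType :=
    ⟨inferInstanceAs (Finite J)⟩
  let q : SheafOfModules.LocalGeneratorsData.{u} (SheafOfModules.free.{u} J : Y.Modules) :=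
    (SheafOfModules.free.generatingSections (R := Y.ringCatSheaf) J).localGeneratorsData
  have hq : q.IsFiniteType := by
    refine @SheafOfModules.LocalGeneratorsData.IsFiniteType.mk _ _ _ _ _ _ _ q (fun x => ?_)
    exact inferInstanceAs (((SheafOfModules.free.generatingSections (R := Y.ringCatSheaf) J).map
      (SheafOfModules.pushforward (𝟙 (Y.ringCatSheaf.over x))) (Iso.refl _))).IsFiniteType
  constructor
  exact ⟨q, hq⟩

theorem isCoh_tilde_of_finite (M : ModuleCat.{u} A) [Module.Finite A M] :
    Coh.IsCoh ((tilde.functor (CommRingCat.of A)).obj M) := by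
  refine ⟨inferInstanceAs ((tilde (R := CommRingCat.of A) M).IsQuasicoherent), ?_⟩
  obtain ⟨r, f, hf⟩ := Module.Finite.exists_fin' A M
  let e : (ULift.{u} (Fin r) →₀ A) →ₗ[A] (Fin r → A) :=
    (Finsupp.linearEquivFunOnFinite A A (Fin r)).toLinearMap.comp
      (Finsupp.domLCongr (Equiv.ulift : ULift.{u} (Fin r) ≃ Fin r)).toLinearMap
  have he : Function.Surjective e :=
    (Finsupp.linearEquivFunOnFinite A A (Fin r)).surjective.comp
      (Finsupp.domLCongr (Equiv.ulift : ULift.{u} (Fin r) ≃ Fin r)).surjective
  let φ : ModuleCat.of A (ULift.{u} (Fin r) →₀ A) ⟶ M := ModuleCat.ofHom (f.comp e)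
  haveI : Epi φ := (ModuleCat.epi_iff_surjective φ).2 (hf.comp he)
  haveI : (tilde.functor (CommRingCat.of A)).PreservesEpimorphisms :=
    Functor.preservesEpimorphisms_of_adjunction (tilde.adjunction (R := CommRingCat.of A))
  haveI := isFiniteType_free (Spec (CommRingCat.of A)) (ULift.{u} (Fin r))
  haveI h1 : Epi ((tilde.functor (CommRingCat.of A)).map φ) :=
    Functor.map_epi (tilde.functor (CommRingCat.of A)) φ
  haveI h2 : Epi ((tildeFinsupp (R := CommRingCat.of A) (ULift.{u} (Fin r))).inv ≫
      (tilde.functor (CommRingCat.of A)).map φ) :=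
    @epi_comp _ _ _ _ _ _ inferInstance _ h1
  exact Groth.Agent.Lib.Helper17.CohKer.isFiniteType_of_epi
    ((tildeFinsupp (R := CommRingCat.of A) (ULift.{u} (Fin r))).inv ≫
      (tilde.functor (CommRingCat.of A)).map φ)

end Coh

section Main

variable {A} [IsNoetherianRing A] (I : Ideal A) [IsAdicComplete I A]
  (G : ℕᵒᵖ ⥤ (Spec (CommRingCat.of A)).Modules) (hG : Formal.IsCohFormal I G)

/-- finiteness of global sections as an `A`-module -/
theorem finite_sections_top (N : (Spec (CommRingCat.of A)).Modules) (hN : Coh.IsCoh N) :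
    Module.Finite A Γ(N, ⊤) := by
  haveI : N.IsQuasicoherent := hN.1
  haveI : SheafOfModules.IsFiniteType.{u} (R := (Spec (CommRingCat.of A)).ringCatSheaf) N := hN.2
  haveI : Module.Finite Γ(Spec (CommRingCat.of A), ⊤) Γ(N, ⊤) :=
    Groth.Agent.Lib.Helper28.FinType.finite_of_isAffineOpen N (isAffineOpen_top _)
  obtain ⟨r, s, hs⟩ := Module.Finite.exists_fin (R := Γ(Spec (CommRingCat.of A), ⊤)) (M := Γ(N, ⊤))
  have hsurjA : Function.Surjective (toSec (A := A) (X := Spec (CommRingCat.of A)) ⊤) := by
    intro y
    refine ⟨(Scheme.ΓSpecIso (CommRingCat.of A)).hom.hom y, ?_⟩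
    rw [toSec_top]
    exact congrArg (fun φ : Γ(Spec (CommRingCat.of A), ⊤) ⟶ Γ(Spec (CommRingCat.of A), ⊤) => φ.hom y)
      (Scheme.ΓSpecIso (CommRingCat.of A)).hom_inv_id
  refine Module.Finite.of_surjective (Fintype.linearCombination A s) ?_
  intro y
  have hy : y ∈ Submodule.span Γ(Spec (CommRingCat.of A), ⊤) (Set.range s) := by
    rw [hs]
    trivial
  obtain ⟨c, hc⟩ := (Submodule.mem_span_range_iff_exists_fun _).1 hy
  choose a ha using fun i => hsurjA (c i)
  refine ⟨a, ?_⟩
  rw [Fintype.linearCombination_apply, ← hc]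
  refine Finset.sum_congr rfl fun i _ => ?_
  show toSec (A := A) (X := Spec (CommRingCat.of A)) ⊤ (a i) • s i = c i • s i
  rw [ha]

include hG in
theorem exists_coh_completion_iso :
    ∃ F : (Spec (CommRingCat.of A)).Modules, Coh.IsCoh F ∧ Nonempty (Formal.completion I F ≅ G) := by
  have hQ : Formal2.IsQCohFormal I G := ⟨fun n => (hG.1 n).1, hG.2.1, hG.2.2⟩
  have hI : I.FG := IsNoetherian.noetherian I
  have hU : IsAffineOpen (⊤ : (Spec (CommRingCat.of A)).Opens) := isAffineOpen_top _
  have hfin : Module.Finite A (AdicLimit.L (secT (A := A) G ⊤)) :=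
    AdicLimit.finite_L (secT (A := A) G ⊤) (secT_refl G ⊤) (secT_trans G ⊤)
      (secT_surjective hQ hU) I (fun m => sec_kill hQ m) (sec_ker hI hQ hU)
      (finite_sections_top _ (hG.1 0))
  let M : ModuleCat.{u} A := ModuleCat.of A (AdicLimit.L (secT (A := A) G ⊤))
  haveI : Module.Finite A M := hfin
  -- the projections as morphisms to the modules of global sections
  let p' : ∀ n, M ⟶ (moduleSpecΓFunctor (R := CommRingCat.of A)).obj (G.obj (op n)) := fun n =>
    ModuleCat.ofHom (R := A) (X := AdicLimit.L (secT (A := A) G ⊤))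
      (Y := (moduleSpecΓFunctor (R := CommRingCat.of A)).obj (G.obj (op n)))
      { toFun := fun x => AdicLimit.p (secT (A := A) G ⊤) n x
        map_add' := fun x y => map_add _ x y
        map_smul' := fun a x => by
          rw [map_smul]
          exact smul_eq_smul A (G.obj (op n)) a _ }
  have hp'apply : ∀ n (x : AdicLimit.L (secT (A := A) G ⊤)), (p' n).hom x = x.1 n := fun n x => rfl
  have hp'surj : ∀ n, Function.Surjective (p' n).hom := fun n =>
    AdicLimit.p_surjective (secT (A := A) G ⊤) (secT_refl G ⊤) (secT_trans G ⊤)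
      (secT_surjective hQ hU) n
  have hp'ker : ∀ n, LinearMap.ker (p' n).hom ≤
      I ^ (n + 1) • (⊤ : Submodule A (AdicLimit.L (secT (A := A) G ⊤))) := by
    intro n x hx
    rw [← AdicLimit.ker_p_eq (secT (A := A) G ⊤) (secT_refl G ⊤) (secT_trans G ⊤)
      (secT_surjective hQ hU) I (fun m => sec_kill hQ m) (sec_ker hI hQ hU) hI n]
    exact hx
  refine ⟨(tilde.functor (CommRingCat.of A)).obj M, isCoh_tilde_of_finite M, ?_⟩
  refine nonempty_completion_iso _ G
    (fun n => ((tilde.adjunction (R := CommRingCat.of A)).homEquiv M (G.obj (op n))).symm (p' n))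
    (fun n => ?_) (fun n => ?_)
  · haveI : (G.obj (op n)).IsQuasicoherent := (hG.1 n).1
    exact isQuot_of_tilde (hG.2.1 n) (p' n) (hp'surj n) (hp'ker n)
  · rw [← Adjunction.homEquiv_naturality_right_symm]
    congr 1
    ext x
    exact x.2 n

end Main

end Groth.Agent.Lib.Helper23.FQuot
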