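import Groth.Agent.Lib.Helper23.Formal.Quot

/-!
# `IsQuot` and `KilledBy` under a left adjoint whose right adjoint is `A`-linear (helper23)
-/

set_option autoImplicit false
universe u
open CategoryTheory CategoryTheory.Limits AlgebraicGeometry Opposite

namespace Groth.Agent.Lib.Helper23.FQuot

variable {A : Type u} [CommRing A] {X Y : Scheme.{u}} [X.Over (Spec (CommRingCat.of A))]
  [Y.Over (Spec (CommRingCat.of A))]

section Adj

variable {L : Y.Modules ⥤ X.Modules} {R : X.Modules ⥤ Y.Modules} (adj : L ⊣ R)
  (hR : ∀ (N : X.Modules) (a : A), R.map (Formal.smulMod A N a) = Formal.smulMod A (R.obj N) a)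

include adj hR

theorem map_smulMod_of_adj (M : Y.Modules) (a : A) :
    L.map (Formal.smulMod A M a) = Formal.smulMod A (L.obj M) a := by
  apply (adj.homEquiv M (L.obj M)).injective
  rw [Adjunction.homEquiv_unit, Adjunction.homEquiv_unit, hR]
  have h1 := adj.unit.naturality (Formal.smulMod A M a)
  have h2 := smulMod_naturality (adj.unit.app M) a
  exact h1.symm.trans h2

theorem killedBy_map_of_adj [L.PreservesZeroMorphisms] {J : Ideal A} {M : Y.Modules}
    (hM : Formal.KilledBy J M) : Formal.KilledBy J (L.obj M) := by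
  intro a ha
  rw [← map_smulMod_of_adj adj hR, hM a ha, L.map_zero]

theorem IsQuot.map_of_adj [L.PreservesZeroMorphisms] {J : Ideal A} {M N : Y.Modules} {q : M ⟶ N}
    (hq : IsQuot J q) : IsQuot J (L.map q) := by
  haveI := hq.epi
  haveI : L.PreservesEpimorphisms := Functor.preservesEpimorphisms_of_adjunction adj
  refine ⟨inferInstance, ?_, ?_⟩
  · intro a ha
    rw [← map_smulMod_of_adj adj hR, ← L.map_comp, hq.zero a ha, L.map_zero]
  · intro T g hg
    have h2 : ∀ a ∈ J, Formal.smulMod A M a ≫ adj.homEquiv M T g = 0 := by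
      intro a ha
      rw [← Adjunction.homEquiv_naturality_left, map_smulMod_of_adj adj hR, hg a ha]
      have h0 : (0 : L.obj M ⟶ T) = L.map (0 : M ⟶ M) ≫ g := by rw [L.map_zero, zero_comp]
      rw [h0, Adjunction.homEquiv_naturality_left, zero_comp]
    obtain ⟨g', hg'⟩ := hq.fac (adj.homEquiv M T g) h2
    refine ⟨(adj.homEquiv N T).symm g', ?_⟩
    rw [← Adjunction.homEquiv_naturality_left_symm, hg', Equiv.symm_apply_apply]

end Adj

section Pullback

variable (f : X ⟶ Y) (hf : f ≫ (Y ↘ Spec (CommRingCat.of A)) = X ↘ Spec (CommRingCat.of A))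

include hf

theorem pushforward_map_smulMod (N : X.Modules) (a : A) :
    (Scheme.Modules.pushforward f).map (Formal.smulMod A N a) =
      Formal.smulMod A ((Scheme.Modules.pushforward f).obj N) a := by
  haveI : f.IsOver (Spec (CommRingCat.of A)) := ⟨hf⟩
  rw [← KLin.smul_id, ← KLin.smul_id, Functor.map_smul, CategoryTheory.Functor.map_id]

theorem pullback_map_smulMod (M : Y.Modules) (a : A) :
    (Scheme.Modules.pullback f).map (Formal.smulMod A M a) =
      Formal.smulMod A ((Scheme.Modules.pullback f).obj M) a :=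
  map_smulMod_of_adj (Scheme.Modules.pullbackPushforwardAdjunction f)
    (pushforward_map_smulMod f hf) M a

theorem killedBy_pullback {J : Ideal A} {M : Y.Modules} (hM : Formal.KilledBy J M) :
    Formal.KilledBy J ((Scheme.Modules.pullback f).obj M) :=
  killedBy_map_of_adj (Scheme.Modules.pullbackPushforwardAdjunction f)
    (pushforward_map_smulMod f hf) hM

theorem IsQuot.pullback {J : Ideal A} {M N : Y.Modules} {q : M ⟶ N} (hq : IsQuot J q) :
    IsQuot J ((Scheme.Modules.pullback f).map q) :=
  hq.map_of_adj (Scheme.Modules.pullbackPushforwardAdjunction f) (pushforward_map_smulMod f hf)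

end Pullback

end Groth.Agent.Lib.Helper23.FQuot
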