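import Mathlib.RingTheory.Finiteness.Ideal
import Mathlib.RingTheory.Ideal.Operations
import Mathlib.LinearAlgebra.Pi
import Mathlib.Algebra.Module.Submodule.Pointwise

/-!
# Limits of adic towers of modules (helper23)

For a finitely generated ideal `I` and a tower `(M_m)` of modules with surjective transition maps,
`I^(m+1) M_m = 0` and `ker (M_(m+1) → M_m) = I^(m+1) M_(m+1)`, the kernel of `lim M_m → M_n` is
`I^(n+1) (lim M_m)`.  The limit is handled through compatible families.
-/

set_option autoImplicit false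

namespace Groth.Agent.Lib.Helper23.AdicLimit

open Finset

variable {A : Type*} [CommRing A] {M : ℕ → Type*} [∀ m, AddCommGroup (M m)] [∀ m, Module A (M m)]
  (T : ∀ k m : ℕ, k ≤ m → (M m →ₗ[A] M k))

/-- compatible families -/
def Compat (x : ∀ m, M m) : Prop := ∀ m, T m (m + 1) (Nat.le_succ m) (x (m + 1)) = x m

/-- the limit as a submodule of the product -/
def L : Submodule A (∀ m, M m) where
  carrier := {x | Compat T x}
  add_mem' := by
    intro x y hx hy m
    simp only [Pi.add_apply, map_add]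
    rw [hx m, hy m]
  zero_mem' := by
    intro m
    simp
  smul_mem' := by
    intro a x hx m
    simp only [Pi.smul_apply, map_smul]
    rw [hx m]

/-- the projections -/
def p (m : ℕ) : L T →ₗ[A] M m := (LinearMap.proj m).comp (L T).subtype

lemma p_apply (m : ℕ) (x : L T) : p T m x = x.1 m := rfl

variable (T_refl : ∀ m (x : M m), T m m le_rfl x = x)
  (T_trans : ∀ (k l m : ℕ) (h₁ : k ≤ l) (h₂ : l ≤ m) (x : M m),
    T k l h₁ (T l m h₂ x) = T k m (h₁.trans h₂) x)

include T_refl T_trans in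
lemma compat_le {x : ∀ m, M m} (hx : Compat T x) (k m : ℕ) (h : k ≤ m) : T k m h (x m) = x k := by
  induction m, h using Nat.le_induction with
  | base => exact T_refl k _
  | succ m h ih =>
    rw [← T_trans k m (m + 1) h (Nat.le_succ m), hx m, ih]

include T_refl T_trans in
lemma p_eq_zero_of_le {x : L T} {k m : ℕ} (h : k ≤ m) (hx : p T m x = 0) : p T k x = 0 := by
  rw [p_apply] at hx ⊢
  rw [← compat_le T T_refl T_trans x.2 k m h, hx, map_zero]

variable (hsurj : ∀ m, Function.Surjective (T m (m + 1) (Nat.le_succ m)))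

include T_refl T_trans hsurj in
lemma exists_lift (m : ℕ) (y : M m) : ∃ x : ∀ k, M k, Compat T x ∧ x m = y := by
  classical
  choose s hs using hsurj
  let x : ∀ k, M k := fun k =>
    Nat.rec (motive := fun k => M k) (T 0 m (Nat.zero_le m) y)
      (fun k xk => if h : k + 1 ≤ m then T (k + 1) m h y else s k xk) k
  have hx0 : x 0 = T 0 m (Nat.zero_le m) y := rfl
  have hxs : ∀ k, x (k + 1) = if h : k + 1 ≤ m then T (k + 1) m h y else s k (x k) := fun k => rfl
  have hxle : ∀ k (h : k ≤ m), x k = T k m h y := by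
    intro k h
    cases k with
    | zero => exact hx0
    | succ k => rw [hxs, dif_pos h]
  refine ⟨x, ?_, ?_⟩
  · intro k
    by_cases h : k + 1 ≤ m
    · rw [hxle (k + 1) h, hxle k (Nat.le_of_succ_le h), T_trans]
    · rw [hxs, dif_neg h, hs]
  · rw [hxle m le_rfl, T_refl]

include T_refl T_trans hsurj in
lemma p_surjective (m : ℕ) : Function.Surjective (p T m) := by
  intro y
  obtain ⟨x, hx, hxm⟩ := exists_lift T T_refl T_trans hsurj m y
  exact ⟨⟨x, hx⟩, hxm⟩

omit [∀ m, AddCommGroup (M m)] [∀ m, Module A (M m)] in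
/-- elements of `J • N'` for `J` generated by `g` -/
lemma exists_sum_of_mem_span_smul {P : Type*} [AddCommGroup P] [Module A P] {r : ℕ} (g : Fin r → A)
    (N' : Submodule A P) {z : P} (hz : z ∈ Ideal.span (Set.range g) • N') :
    ∃ v : Fin r → P, (∀ i, v i ∈ N') ∧ z = ∑ i, g i • v i := by
  refine Submodule.smul_induction_on hz ?_ ?_
  · intro a ha n hn
    obtain ⟨c, hc⟩ := (Ideal.mem_span_range_iff_exists_fun).1 ha
    refine ⟨fun i => c i • n, fun i => N'.smul_mem _ hn, ?_⟩
    rw [← hc, Finset.sum_smul]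
    refine Finset.sum_congr rfl fun i _ => ?_
    rw [smul_smul, mul_comm]
  · rintro x y ⟨v, hv, rfl⟩ ⟨v', hv', rfl⟩
    refine ⟨fun i => v i + v' i, fun i => N'.add_mem (hv i) (hv' i), ?_⟩
    rw [← Finset.sum_add_distrib]
    refine Finset.sum_congr rfl fun i _ => ?_
    rw [smul_add]

variable (I : Ideal A)

lemma p_mem_smul_top {k m : ℕ} {w : L T} (hw : w ∈ I ^ k • (⊤ : Submodule A (L T))) :
    p T m w ∈ I ^ k • (⊤ : Submodule A (M m)) := by
  have h1 : p T m w ∈ Submodule.map (p T m) (I ^ k • (⊤ : Submodule A (L T))) :=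
    Submodule.mem_map_of_mem hw
  rw [Submodule.map_smul''] at h1
  exact Submodule.smul_mono le_rfl le_top h1

variable (hkill : ∀ m, I ^ (m + 1) • (⊤ : Submodule A (M m)) = ⊥)

include hkill in
lemma p_eq_zero_of_mem_smul_top {k m : ℕ} (hmk : m + 1 ≤ k) {w : L T}
    (hw : w ∈ I ^ k • (⊤ : Submodule A (L T))) : p T m w = 0 := by
  have h1 := p_mem_smul_top T I (m := m) hw
  have h2 : I ^ k • (⊤ : Submodule A (M m)) ≤ I ^ (m + 1) • (⊤ : Submodule A (M m)) :=
    Submodule.smul_mono_left (Ideal.pow_le_pow_right hmk)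
  have h3 := h2 h1
  rw [hkill m] at h3
  exact (Submodule.mem_bot A).1 h3

variable (hker : ∀ m (x : M (m + 1)), T m (m + 1) (Nat.le_succ m) x = 0 →
    x ∈ I ^ (m + 1) • (⊤ : Submodule A (M (m + 1))))

include T_refl T_trans hsurj hker in
/-- one step of the approximation -/
lemma step {r : ℕ} (g : Fin r → A) (n : ℕ) (hg : Ideal.span (Set.range g) = I ^ (n + 1)) (k : ℕ)
    (y : L T) (hy : p T (n + k) y = 0) :
    ∃ w : Fin r → L T, (∀ i, w i ∈ I ^ k • (⊤ : Submodule A (L T))) ∧
      p T (n + k + 1) (y - ∑ i, g i • w i) = 0 := by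
  have h1 : y.1 (n + k + 1) ∈ I ^ (n + k + 1) • (⊤ : Submodule A (M (n + k + 1))) := by
    apply hker
    rw [y.2 (n + k)]
    exact hy
  have h2 : I ^ (n + k + 1) = Ideal.span (Set.range g) * I ^ k := by
    rw [hg, ← pow_add]
    congr 1
    omega
  rw [h2, Submodule.mul_smul] at h1
  obtain ⟨v, hv, hvz⟩ := exists_sum_of_mem_span_smul g _ h1
  have hmap : Submodule.map (p T (n + k + 1)) (I ^ k • (⊤ : Submodule A (L T))) =
      I ^ k • (⊤ : Submodule A (M (n + k + 1))) := by
    rw [Submodule.map_smul'', Submodule.map_top,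
      LinearMap.range_eq_top.2 (p_surjective T T_refl T_trans hsurj (n + k + 1))]
  have hw : ∀ i, ∃ w : L T, w ∈ I ^ k • (⊤ : Submodule A (L T)) ∧ p T (n + k + 1) w = v i := by
    intro i
    have := hv i
    rw [← hmap] at this
    obtain ⟨w, hw, hwv⟩ := this
    exact ⟨w, hw, hwv⟩
  choose w hw hwv using hw
  refine ⟨w, hw, ?_⟩
  rw [map_sub, map_sum, p_apply, hvz, sub_eq_zero]
  refine Finset.sum_congr rfl fun i _ => ?_
  rw [map_smul, hwv]

include T_refl T_trans hsurj hker hkill in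
theorem main (hI : I.FG) (n : ℕ) (x : ∀ m, M m) (hx : Compat T x) (hxn : x n = 0) :
    ∃ (r : ℕ) (b : Fin r → A) (y : Fin r → ∀ m, M m), (∀ j, b j ∈ I ^ (n + 1)) ∧
      (∀ j, Compat T (y j)) ∧ ∀ m, x m = ∑ j, b j • y j m := by
  classical
  obtain ⟨r, g, hg⟩ := Submodule.fg_iff_exists_fin_generating_family.1 (Ideal.FG.pow hI (n := n + 1))
  have hg' : Ideal.span (Set.range g) = I ^ (n + 1) := hg
  -- the step function
  have hstep := step T T_refl T_trans hsurj I hker g n hg'
  choose stepw hstepw hstepp using hstep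
  -- the sequence of remainders
  let Y : ∀ k, {y : L T // p T (n + k) y = 0} := fun k =>
    Nat.rec (motive := fun k => {y : L T // p T (n + k) y = 0}) ⟨⟨x, hx⟩, hxn⟩
      (fun k yk => ⟨yk.1 - ∑ i, g i • stepw k yk.1 yk.2 i, hstepp k yk.1 yk.2⟩) k
  let W : ℕ → Fin r → L T := fun k i => stepw k (Y k).1 (Y k).2 i
  have hY0 : (Y 0).1 = ⟨x, hx⟩ := rfl
  have hYs : ∀ k, (Y (k + 1)).1 = (Y k).1 - ∑ i, g i • W k i := fun k => rfl
  have hW : ∀ k i, W k i ∈ I ^ k • (⊤ : Submodule A (L T)) := fun k i => hstepw k (Y k).1 (Y k).2 i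
  -- telescoping
  have htel : ∀ N, (⟨x, hx⟩ : L T) = ∑ k ∈ range N, ∑ i, g i • W k i + (Y N).1 := by
    intro N
    induction N with
    | zero => rw [Finset.range_zero, Finset.sum_empty, zero_add, hY0]
    | succ N ih =>
      rw [Finset.sum_range_succ, hYs]
      rw [ih]
      abel
  -- the infinite sums
  let Wt : Fin r → ∀ m, M m := fun i m => ∑ k ∈ range (m + 1), (W k i).1 m
  have hWt : ∀ i, Compat T (Wt i) := by
    intro i m
    show T m (m + 1) _ (∑ k ∈ range (m + 1 + 1), (W k i).1 (m + 1)) = ∑ k ∈ range (m + 1), (W k i).1 m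
    rw [map_sum, Finset.sum_range_succ]
    have h0 : T m (m + 1) (Nat.le_succ m) ((W (m + 1) i).1 (m + 1)) = 0 := by
      rw [(W (m + 1) i).2 m]
      exact p_eq_zero_of_mem_smul_top T I hkill (le_refl (m + 1)) (hW (m + 1) i)
    rw [h0, add_zero]
    refine Finset.sum_congr rfl fun k _ => ?_
    exact (W k i).2 m
  refine ⟨r, g, Wt, ?_, hWt, ?_⟩
  · intro j
    rw [← hg']
    exact Ideal.subset_span ⟨j, rfl⟩
  · intro m
    have h1 := congrArg (fun z : L T => z.1 m) (htel (m + 1))
    have h2 : ((Y (m + 1)).1).1 m = 0 :=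
      p_eq_zero_of_le T T_refl T_trans (by omega : m ≤ n + (m + 1)) (Y (m + 1)).2
    simp only [Submodule.coe_add, Pi.add_apply, h2, add_zero] at h1
    rw [h1]
    simp only [Submodule.coe_sum, Submodule.coe_smul, Finset.sum_apply, Pi.smul_apply]
    rw [Finset.sum_comm]
    refine Finset.sum_congr rfl fun i _ => ?_
    rw [Finset.smul_sum]

end Groth.Agent.Lib.Helper23.AdicLimit
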