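import Groth.Agent.Lib.Helper23.Formal.QuotSections
import Groth.Agent.Lib.Helper23.Formal.AdicLimit
import Groth.Agent.Lib.Helper28.QCohGen

/-!
# The limit of a quasi-coherent formal system: `lim G / I^(n+1) lim G = G_n` (helper23)
-/

set_option autoImplicit false
universe u
open CategoryTheory CategoryTheory.Limits AlgebraicGeometry Opposite

namespace Groth.Agent.Lib.Helper23.FQuot

variable {A : Type u} [CommRing A] {X : Scheme.{u}} [X.Over (Spec (CommRingCat.of A))]

/-- the ring map `A → Γ(X, U)` -/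
noncomputable def toSec (U : X.Opens) : A →+* Γ(X, U) :=
  (X.presheaf.map (homOfLE (le_top : U ≤ ⊤)).op).hom.comp
    (Coh.toGlobal (X ↘ Spec (CommRingCat.of A)))

/-- the `A`-module structure on sections -/
noncomputable def secModule (M : X.Modules) (U : X.Opens) : Module A Γ(M, U) :=
  Module.compHom _ (toSec (A := A) U)

attribute [local instance] secModule

theorem smulMod_app (M : X.Modules) (a : A) (U : X.Opens) (m : Γ(M, U)) :
    (Formal.smulMod A M a).app U m = a • m := rfl

theorem app_smul {M N : X.Modules} (φ : M ⟶ N) (U : X.Opens) (a : A) (m : Γ(M, U)) :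
    φ.app U (a • m) = a • φ.app U m :=
  Scheme.Modules.Hom.app_smul φ (toSec (A := A) U a) m

section Tower

variable (G : ℕᵒᵖ ⥤ X.Modules) (U : X.Opens)

/-- transition maps on sections, as `A`-linear maps -/
noncomputable def secT (k m : ℕ) (h : k ≤ m) :
    Γ(G.obj (op m), U) →ₗ[A] Γ(G.obj (op k), U) where
  toFun := (G.map (homOfLE h).op).app U
  map_add' := map_add _
  map_smul' a x := app_smul _ U a x

theorem secT_apply (k m : ℕ) (h : k ≤ m) (x : Γ(G.obj (op m), U)) :
    secT (A := A) G U k m h x = (G.map (homOfLE h).op).app U x := rfl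

theorem secT_refl (m : ℕ) (x : Γ(G.obj (op m), U)) : secT (A := A) G U m m le_rfl x = x := by
  rw [secT_apply]
  have : G.map (homOfLE (le_refl m)).op = 𝟙 _ := by
    rw [← G.map_id]
    congr 1
  rw [this]
  rfl

theorem secT_trans (k l m : ℕ) (h₁ : k ≤ l) (h₂ : l ≤ m) (x : Γ(G.obj (op m), U)) :
    secT (A := A) G U k l h₁ (secT (A := A) G U l m h₂ x) =
      secT (A := A) G U k m (h₁.trans h₂) x := by
  rw [secT_apply, secT_apply, secT_apply]
  have : G.map (homOfLE (h₁.trans h₂)).op = G.map (homOfLE h₂).op ≫ G.map (homOfLE h₁).op := by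
    rw [← G.map_comp]
    congr 1
  rw [this]
  rfl

/-- sections functor -/
noncomputable abbrev secF : X.Modules ⥤ Ab :=
  Scheme.Modules.toPresheaf X ⋙ (evaluation _ _).obj (op U)

noncomputable instance secF_preservesLimitsOfShape_nat : PreservesLimitsOfShape ℕᵒᵖ (secF U) := by
  have : PreservesLimitsOfSize.{0, 0} (Scheme.Modules.toPresheaf X) :=
    preservesSmallestLimits_of_preservesLimits _
  have h1 : PreservesLimitsOfShape ℕᵒᵖ
      ((evaluation (TopologicalSpace.Opens X)ᵒᵖ Ab.{u}).obj (op U)) := inferInstance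
  exact comp_preservesLimitsOfShape (Scheme.Modules.toPresheaf X)
    ((evaluation (TopologicalSpace.Opens X)ᵒᵖ Ab.{u}).obj (op U))

/-- sections of the limit form a limit cone -/
noncomputable def secLimit : IsLimit ((secF U).mapCone (limit.cone G)) :=
  isLimitOfPreserves (secF U) (limit.isLimit G)

theorem sec_ext (x y : Γ(limit G, U))
    (h : ∀ m, (limit.π G (op m)).app U x = (limit.π G (op m)).app U y) : x = y := by
  refine Concrete.isLimit_ext (G ⋙ secF U) (secLimit G U) x y ?_
  intro j
  exact h j.unop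

theorem sec_exists (x : ∀ m, Γ(G.obj (op m), U))
    (hx : AdicLimit.Compat (secT (A := A) G U) x) :
    ∃ s : Γ(limit G, U), ∀ m, (limit.π G (op m)).app U s = x m := by
  have hle := AdicLimit.compat_le (secT (A := A) G U) (secT_refl G U) (secT_trans G U) hx
  let sec : ((G ⋙ secF U) ⋙ forget Ab).sections :=
    ⟨fun j => x j.unop, by
      intro j j' f
      have h := hle j'.unop j.unop (leOfHom f.unop)
      rw [secT_apply] at h
      have hf : f = (homOfLE (leOfHom f.unop)).op := Subsingleton.elim _ _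
      rw [hf]
      exact h⟩
  let e := Types.isLimitEquivSections (isLimitOfPreserves (forget Ab) (secLimit G U))
  refine ⟨e.symm sec, fun m => ?_⟩
  exact Types.isLimitEquivSections_symm_apply
    (isLimitOfPreserves (forget Ab) (secLimit G U)) sec (op m)

end Tower

section Main

variable {I : Ideal A} (hI : I.FG) {G : ℕᵒᵖ ⥤ X.Modules} (hG : Formal2.IsQCohFormal I G)

include hG in
theorem isQuot_trans (m : ℕ) : IsQuot (I ^ (m + 1)) (G.map (homOfLE (Nat.le_succ m)).op) :=
  (isQuot_iff _ _).2 (hG.2.2 m)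

variable {U : X.Opens} (hU : IsAffineOpen U)

include hG hU in
theorem secT_surjective (m : ℕ) :
    Function.Surjective (secT (A := A) G U m (m + 1) (Nat.le_succ m)) := by
  haveI := (isQuot_trans hG m).epi
  haveI : (G.obj (op (m + 1))).IsQuasicoherent := hG.1 (m + 1)
  haveI : (G.obj (op m)).IsQuasicoherent := hG.1 m
  exact Groth.Agent.Lib.Helper23.Tower.surj_sections_of_epi (G.map (homOfLE (Nat.le_succ m)).op) hU

include hG in
theorem sec_kill (m : ℕ) : I ^ (m + 1) • (⊤ : Submodule A Γ(G.obj (op m), U)) = ⊥ := by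
  rw [eq_bot_iff, Submodule.smul_le]
  intro a ha x _
  rw [Submodule.mem_bot, ← smulMod_app, hG.2.1 m a ha]
  rfl

include hI hG hU in
theorem sec_ker (m : ℕ) (x : Γ(G.obj (op (m + 1)), U))
    (hx : secT (A := A) G U m (m + 1) (Nat.le_succ m) x = 0) :
    x ∈ I ^ (m + 1) • (⊤ : Submodule A Γ(G.obj (op (m + 1)), U)) := by
  haveI : (G.obj (op (m + 1))).IsQuasicoherent := hG.1 (m + 1)
  haveI : (G.obj (op m)).IsQuasicoherent := hG.1 m
  obtain ⟨r, a, z, ha, hz⟩ := exists_sum_of_app_eq_zero (Ideal.FG.pow hI (n := m + 1))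
    (G.map (homOfLE (Nat.le_succ m)).op) (isQuot_trans hG m) hU x hx
  rw [hz]
  refine Submodule.sum_mem _ fun i _ => ?_
  rw [smulMod_app]
  exact Submodule.smul_mem_smul (ha i) Submodule.mem_top

include hI hG hU in
/-- key lemma on sections of the limit over an affine open -/
theorem exists_sum_of_limitπ_app_eq_zero (n : ℕ) (s : Γ(limit G, U))
    (hs : (limit.π G (op n)).app U s = 0) :
    ∃ (r : ℕ) (b : Fin r → A) (s' : Fin r → Γ(limit G, U)), (∀ j, b j ∈ I ^ (n + 1)) ∧
      s = ∑ j, (Formal.smulMod A (limit G) (b j)).app U (s' j) := by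
  let x : ∀ m, Γ(G.obj (op m), U) := fun m => (limit.π G (op m)).app U s
  have hx : AdicLimit.Compat (secT (A := A) G U) x := by
    intro m
    rw [secT_apply]
    have := congrArg (fun φ : limit G ⟶ G.obj (op m) => φ.app U s)
      (limit.w G (homOfLE (Nat.le_succ m)).op)
    exact this
  obtain ⟨r, b, y, hb, hy, hxy⟩ := AdicLimit.main (secT (A := A) G U) (secT_refl G U)
    (secT_trans G U) (secT_surjective hG hU) I (fun m => sec_kill hG m) (sec_ker hI hG hU) hI n x hx hs
  have hs' : ∀ j, ∃ s' : Γ(limit G, U), ∀ m, (limit.π G (op m)).app U s' = y j m := fun j =>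
    sec_exists G U (y j) (hy j)
  choose s' hs' using hs'
  refine ⟨r, b, s', hb, ?_⟩
  apply sec_ext G U
  intro m
  rw [map_sum]
  show x m = _
  rw [hxy m]
  refine Finset.sum_congr rfl fun j _ => ?_
  rw [smulMod_app, app_smul, hs']

include hI hG in
theorem isQuot_limitπ (n : ℕ) : IsQuot (I ^ (n + 1)) (limit.π G (op n)) := by
  have hepi : Epi (limit.π G (op n)) := by
    apply Groth.Agent.Lib.Helper28.QCohLoc.epi_of_locally_in_range
    intro W x pt hpt
    obtain ⟨V, hV, hptV, hVW⟩ := TopologicalSpace.Opens.isBasis_iff_nbhd.1 X.isBasis_affineOpens hpt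
    refine ⟨V, hVW, hptV, ?_⟩
    obtain ⟨y, hy, hyn⟩ := AdicLimit.exists_lift (secT (A := A) G V) (secT_refl G V)
      (secT_trans G V) (secT_surjective hG hV) n
      (Groth.Agent.Lib.Helper28.QCohLoc.res (G.obj (op n)) hVW x)
    obtain ⟨s, hs⟩ := sec_exists G V y hy
    exact ⟨s, (hs n).trans hyn⟩
  haveI := hepi
  refine ⟨hepi, ?_, ?_⟩
  · intro a ha
    rw [smulMod_naturality, hG.2.1 n a ha, comp_zero]
  · intro T g hg
    have hker : kernel.ι (limit.π G (op n)) ≫ g = 0 := by
      apply Scheme.Modules.hom_ext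
      intro W
      ext k
      show (kernel.ι (limit.π G (op n)) ≫ g).app W k = 0
      refine Groth.Agent.Lib.Helper28.QCohLoc.eq_of_locally_eq T
        (fun V : {V : X.Opens // IsAffineOpen V ∧ V ≤ W} => V.1) W (fun V => V.2.2) ?_ _ _ ?_
      · intro pt hpt
        obtain ⟨V, hV, hptV, hVW⟩ :=
          TopologicalSpace.Opens.isBasis_iff_nbhd.1 X.isBasis_affineOpens hpt
        exact TopologicalSpace.Opens.mem_iSup.2 ⟨⟨V, hV, hVW⟩, hptV⟩
      · rintro ⟨V, hV, hVW⟩
        rw [Groth.Agent.Lib.Helper28.QCohLoc.res_zero,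
          ← Groth.Agent.Lib.Helper28.QCohLoc.app_res]
        set k' := Groth.Agent.Lib.Helper28.QCohLoc.res (kernel (limit.π G (op n))) hVW k
        show g.app V ((kernel.ι (limit.π G (op n))).app V k') = 0
        have h0 : (limit.π G (op n)).app V ((kernel.ι (limit.π G (op n))).app V k') = 0 := by
          have := congrArg (fun φ : kernel (limit.π G (op n)) ⟶ G.obj (op n) => φ.app V k')
            (kernel.condition (limit.π G (op n)))
          exact this
        obtain ⟨r, b, s', hb, hsum⟩ := exists_sum_of_limitπ_app_eq_zero hI hG hV n _ h0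
        rw [hsum, map_sum]
        refine Finset.sum_eq_zero fun j _ => ?_
        have := congrArg (fun φ : limit G ⟶ T => φ.app V (s' j)) (hg (b j) (hb j))
        exact this
    exact ⟨Abelian.epiDesc (limit.π G (op n)) g hker, Abelian.comp_epiDesc _ _ _⟩

end Main

end Groth.Agent.Lib.Helper23.FQuot
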