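import Groth.Agent.Lib.Helper23.Formal.ProIso
import Groth.Agent.Lib.Helper23.Formal.QuotAdj
import Groth.Agent.Lib.Helper28.QCohPush
import Mathlib.AlgebraicGeometry.Noetherian

/-!
# Restriction of formal systems to opens, pro-isomorphisms under functors (helper23)
-/

set_option autoImplicit false
universe v u
open CategoryTheory CategoryTheory.Limits AlgebraicGeometry Opposite

namespace Groth.Agent.Lib.Helper23.FQuot

section Pro

variable {C : Type*} [Category C] {D : Type*} [Category D]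

theorem isProIsomorphic_map (R : C ⥤ D) {X Y : ℕᵒᵖ ⥤ C} (h : Algz.IsProIsomorphic X Y) :
    Algz.IsProIsomorphic (X ⋙ R) (Y ⋙ R) := by
  obtain ⟨m, hm, hle, a, ha⟩ := h
  refine ⟨m, hm, hle, Functor.whiskerRight a R, ?_⟩
  intro n
  obtain ⟨k, hnk, b, hab, hba⟩ := ha n
  refine ⟨k, hnk, R.map b, ?_, ?_⟩
  · change R.map (a.app (op k)) ≫ R.map b = R.map _
    rw [← R.map_comp, hab]
    rfl
  · change R.map b ≫ R.map (a.app (op n)) = R.map _
    rw [← R.map_comp, hba]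

theorem proIso_aux {Xk Xn X'k X'n Yk Yn : C} (ek : X'k ≅ Xk) (en : X'n ≅ Xn) (ak : Xk ⟶ Yk)
    (an : Xn ⟶ Yn) (b : Yk ⟶ Xn) (tX : Xk ⟶ Xn) (tX' : X'k ⟶ X'n) (tY : Yk ⟶ Yn)
    (hnat : tX' ≫ en.hom = ek.hom ≫ tX) (hab : ak ≫ b = tX) (hba : b ≫ an = tY) :
    (ek.hom ≫ ak) ≫ (b ≫ en.inv) = tX' ∧ (b ≫ en.inv) ≫ (en.hom ≫ an) = tY := by
  constructor
  · rw [Category.assoc, ← Category.assoc ak, hab, ← Category.assoc, ← hnat, Category.assoc,
      Iso.hom_inv_id, Category.comp_id]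
  · rw [Category.assoc, Iso.inv_hom_id_assoc, hba]

theorem isProIsomorphic_of_iso_left {X X' Y : ℕᵒᵖ ⥤ C} (e : X' ≅ X)
    (h : Algz.IsProIsomorphic X Y) : Algz.IsProIsomorphic X' Y := by
  obtain ⟨m, hm, hle, a, ha⟩ := h
  refine ⟨m, hm, hle, Functor.whiskerLeft (Monotone.functor hm).op e.hom ≫ a, ?_⟩
  intro n
  obtain ⟨k, hnk, b, hab, hba⟩ := ha n
  have := proIso_aux (e.app (op (m k))) (e.app (op (m n))) (a.app (op k)) (a.app (op n)) b
    (X.map (homOfLE (hm hnk)).op) (X'.map (homOfLE (hm hnk)).op) (Y.map (homOfLE hnk).op)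
    (e.hom.naturality _) hab hba
  exact ⟨k, hnk, b ≫ e.inv.app (op (m n)), this.1, this.2⟩

end Pro

variable {A : Type u} [CommRing A] {X Y : Scheme.{u}} [X.Over (Spec (CommRingCat.of A))]
  [Y.Over (Spec (CommRingCat.of A))]

theorem IsFormalSys.restrict {I : Ideal A} {G : ℕᵒᵖ ⥤ Y.Modules} (hG : IsFormalSys I G)
    (f : X ⟶ Y) [IsOpenImmersion f]
    (hf : f ≫ (Y ↘ Spec (CommRingCat.of A)) = X ↘ Spec (CommRingCat.of A)) :
    IsFormalSys I (G ⋙ Scheme.Modules.restrictFunctor f) := by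
  haveI : (Scheme.Modules.restrictFunctor f).IsLeftAdjoint :=
    (Scheme.Modules.restrictAdjunction f).isLeftAdjoint
  haveI : (Scheme.Modules.restrictFunctor f).PreservesZeroMorphisms := inferInstance
  refine ⟨fun n => ?_, fun n => ?_⟩
  · exact killedBy_map_of_adj (Scheme.Modules.restrictAdjunction f)
      (pushforward_map_smulMod f hf) (hG.1 n)
  · exact (hG.2 n).map_of_adj (Scheme.Modules.restrictAdjunction f) (pushforward_map_smulMod f hf)

end Groth.Agent.Lib.Helper23.FQuot
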