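import Groth.Agent.Lib.Helper23.Formal.Completion
import Groth.Agent.Lib.Helper23.Formal.Restrict

/-!
# Completion commutes with restriction to opens (helper23)
-/

set_option autoImplicit false
universe u
open CategoryTheory CategoryTheory.Limits AlgebraicGeometry Opposite

namespace Groth.Agent.Lib.Helper23.FQuot

variable {A : Type u} [CommRing A] {X Y : Scheme.{u}} [X.Over (Spec (CommRingCat.of A))]
  [Y.Over (Spec (CommRingCat.of A))]

theorem IsQuot.restrict {J : Ideal A} {M N : Y.Modules} {q : M ⟶ N} (hq : IsQuot J q)
    (f : X ⟶ Y) [IsOpenImmersion f]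
    (hf : f ≫ (Y ↘ Spec (CommRingCat.of A)) = X ↘ Spec (CommRingCat.of A)) :
    IsQuot J ((Scheme.Modules.restrictFunctor f).map q) := by
  haveI : (Scheme.Modules.restrictFunctor f).IsLeftAdjoint :=
    (Scheme.Modules.restrictAdjunction f).isLeftAdjoint
  haveI : (Scheme.Modules.restrictFunctor f).PreservesZeroMorphisms := inferInstance
  exact hq.map_of_adj (Scheme.Modules.restrictAdjunction f) (pushforward_map_smulMod f hf)

theorem nonempty_completion_restrict_iso (I : Ideal A) (M : Y.Modules) (f : X ⟶ Y)
    [IsOpenImmersion f]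
    (hf : f ≫ (Y ↘ Spec (CommRingCat.of A)) = X ↘ Spec (CommRingCat.of A)) :
    Nonempty (Formal.completion I ((Scheme.Modules.restrictFunctor f).obj M) ≅
      Formal.completion I M ⋙ Scheme.Modules.restrictFunctor f) := by
  refine nonempty_completion_iso _ _
    (fun n => (Scheme.Modules.restrictFunctor f).map (Formal.modPowπ I (n + 1) M))
    (fun n => (isQuot_modPowπ I (n + 1) M).restrict f hf) (fun n => ?_)
  rw [Functor.comp_map, completion_map_succ]
  exact ((Scheme.Modules.restrictFunctor f).map_comp _ _).symm.trans
    (congrArg (Scheme.Modules.restrictFunctor f).map (Formal.modPowπ_trans I (n + 1) M))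

end Groth.Agent.Lib.Helper23.FQuot
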