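import Groth.Prelude.Def_Formal2
import Groth.Prelude.Def_Formal
import Groth.Prelude.Def_KLin
import Groth.Prelude.Def_Coh

/-!
# Abstract calculus of quotients `M / J M` in `X.Modules` (helper23)

`IsQuot J f` says that `f : M ⟶ N` exhibits `N` as the cokernel of `Formal.smulFamily J M`,
i.e. as `M / J M`.  Everything is formal from the naturality of `Formal.smulMod`.
-/

set_option autoImplicit false
universe u
open CategoryTheory CategoryTheory.Limits AlgebraicGeometry Opposite

namespace Groth.Agent.Lib.Helper23.FQuot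

variable {A : Type u} [CommRing A] {X : Scheme.{u}} [X.Over (Spec (CommRingCat.of A))]

theorem smulMod_naturality {M N : X.Modules} (h : M ⟶ N) (a : A) :
    Formal.smulMod A M a ≫ h = h ≫ Formal.smulMod A N a := by
  unfold Formal.smulMod
  exact (KLin.comp_smulModΓ h _).symm

theorem ι_smulFamily (J : Ideal A) (M : X.Modules) (a : J) :
    Sigma.ι (fun _ : J => M) a ≫ Formal.smulFamily J M = Formal.smulMod A M (a : A) := by
  simp [Formal.smulFamily]

theorem smulFamily_comp_eq_zero_iff (J : Ideal A) {M T : X.Modules} (g : M ⟶ T) :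
    Formal.smulFamily J M ≫ g = 0 ↔ ∀ a ∈ J, Formal.smulMod A M a ≫ g = 0 := by
  constructor
  · intro h a ha
    rw [← ι_smulFamily J M ⟨a, ha⟩, Category.assoc, h, comp_zero]
  · intro h
    apply Sigma.hom_ext
    intro a
    rw [← Category.assoc, ι_smulFamily, comp_zero]
    exact h a a.2

theorem killedBy_mono {J J' : Ideal A} (h : J' ≤ J) {M : X.Modules} (hM : Formal.KilledBy J M) :
    Formal.KilledBy J' M := fun a ha => hM a (h ha)

theorem killedBy_of_iso {J : Ideal A} {M N : X.Modules} (e : M ≅ N) (hM : Formal.KilledBy J M) :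
    Formal.KilledBy J N := by
  intro a ha
  have h1 := smulMod_naturality e.hom a
  rw [hM a ha, zero_comp] at h1
  rw [← cancel_epi e.hom, ← h1, comp_zero]

/-- `f : M ⟶ N` exhibits `N` as `M / J M`. -/
structure IsQuot (J : Ideal A) {M N : X.Modules} (f : M ⟶ N) : Prop where
  epi : Epi f
  zero : ∀ a ∈ J, Formal.smulMod A M a ≫ f = 0
  fac : ∀ {T : X.Modules} (g : M ⟶ T), (∀ a ∈ J, Formal.smulMod A M a ≫ g = 0) →
    ∃ g' : N ⟶ T, f ≫ g' = g

theorem isQuot_iff (J : Ideal A) {M N : X.Modules} (f : M ⟶ N) :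
    IsQuot J f ↔ ∃ h : Formal.smulFamily J M ≫ f = 0, IsIso (cokernel.desc _ f h) := by
  constructor
  · intro hf
    haveI := hf.epi
    have h : Formal.smulFamily J M ≫ f = 0 := (smulFamily_comp_eq_zero_iff J f).2 hf.zero
    refine ⟨h, ?_⟩
    obtain ⟨g', hg'⟩ := hf.fac (cokernel.π (Formal.smulFamily J M))
      ((smulFamily_comp_eq_zero_iff J _).1 (cokernel.condition _))
    refine ⟨g', ?_, ?_⟩
    · apply coequalizer.hom_ext
      rw [← Category.assoc, cokernel.π_desc, hg', Category.comp_id]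
    · rw [← cancel_epi f, ← Category.assoc, hg', cokernel.π_desc, Category.comp_id]
  · rintro ⟨h, hiso⟩
    refine ⟨?_, (smulFamily_comp_eq_zero_iff J f).1 h, ?_⟩
    · have : f = cokernel.π _ ≫ cokernel.desc _ f h := (cokernel.π_desc _ _ _).symm
      rw [this]
      infer_instance
    · intro T g hg
      have hg' : Formal.smulFamily J M ≫ g = 0 := (smulFamily_comp_eq_zero_iff J g).2 hg
      refine ⟨inv (cokernel.desc _ f h) ≫ cokernel.desc _ g hg', ?_⟩
      have h1 : f ≫ inv (cokernel.desc _ f h) = cokernel.π _ := by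
        rw [IsIso.comp_inv_eq, cokernel.π_desc]
      rw [← Category.assoc, h1, cokernel.π_desc]

theorem isQuot_cokernelπ (J : Ideal A) (M : X.Modules) :
    IsQuot J (cokernel.π (Formal.smulFamily J M)) := by
  rw [isQuot_iff]
  refine ⟨cokernel.condition _, ?_⟩
  have : cokernel.desc (Formal.smulFamily J M) (cokernel.π (Formal.smulFamily J M))
      (cokernel.condition _) = 𝟙 _ := by
    apply coequalizer.hom_ext
    rw [cokernel.π_desc, Category.comp_id]
  rw [this]
  infer_instance

theorem isQuot_modPowπ (I : Ideal A) (n : ℕ) (M : X.Modules) :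
    IsQuot (I ^ n) (Formal.modPowπ I n M) := isQuot_cokernelπ _ M

instance epi_modPowπ (I : Ideal A) (n : ℕ) (M : X.Modules) : Epi (Formal.modPowπ I n M) :=
  (isQuot_modPowπ I n M).epi

theorem modPowπ_desc (I : Ideal A) (n : ℕ) {M T : X.Modules} (g : M ⟶ T)
    (h : Formal.smulFamily (I ^ n) M ≫ g = 0) :
    Formal.modPowπ I n M ≫ (cokernel.desc (Formal.smulFamily (I ^ n) M) g h :
      Formal.modPow I n M ⟶ T) = g :=
  cokernel.π_desc _ _ _

theorem modPow_hom_ext (I : Ideal A) (n : ℕ) {M T : X.Modules} {f g : Formal.modPow I n M ⟶ T}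
    (h : Formal.modPowπ I n M ≫ f = Formal.modPowπ I n M ≫ g) : f = g :=
  (cancel_epi _).1 h

theorem modPowπ_desc_comp (I : Ideal A) (n : ℕ) {M T T' : X.Modules} (g : M ⟶ T)
    (h : Formal.smulFamily (I ^ n) M ≫ g = 0) (k : T ⟶ T') :
    Formal.modPowπ I n M ≫ ((cokernel.desc (Formal.smulFamily (I ^ n) M) g h :
      Formal.modPow I n M ⟶ T) ≫ k) = g ≫ k := by
  rw [← Category.assoc, modPowπ_desc]

namespace IsQuot

variable {J J' : Ideal A} {M N P : X.Modules}

theorem killed {f : M ⟶ N} (hf : IsQuot J f) : Formal.KilledBy J N := by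
  intro a ha
  haveI := hf.epi
  rw [← cancel_epi f, ← smulMod_naturality, hf.zero a ha, comp_zero]

theorem comp {p : M ⟶ N} {q : N ⟶ P} (hJ : J' ≤ J) (hp : IsQuot J' p) (hq : IsQuot J q) :
    IsQuot J (p ≫ q) := by
  haveI := hp.epi
  haveI := hq.epi
  refine ⟨epi_comp p q, ?_, ?_⟩
  · intro a ha
    rw [← Category.assoc, smulMod_naturality, Category.assoc, hq.zero a ha, comp_zero]
  · intro T g hg
    obtain ⟨g', hg'⟩ := hp.fac g (fun a ha => hg a (hJ ha))
    have h2 : ∀ a ∈ J, Formal.smulMod A N a ≫ g' = 0 := by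
      intro a ha
      rw [← cancel_epi p, ← Category.assoc, ← smulMod_naturality, Category.assoc, hg', hg a ha,
        comp_zero]
    obtain ⟨g'', hg''⟩ := hq.fac g' h2
    exact ⟨g'', by rw [Category.assoc, hg'', hg']⟩

theorem iso_comp {e : M ⟶ N} [IsIso e] {q : N ⟶ P} (hq : IsQuot J q) : IsQuot J (e ≫ q) := by
  haveI := hq.epi
  refine ⟨epi_comp e q, ?_, ?_⟩
  · intro a ha
    rw [← Category.assoc, smulMod_naturality, Category.assoc, hq.zero a ha, comp_zero]
  · intro T g hg
    have h2 : ∀ a ∈ J, Formal.smulMod A N a ≫ (inv e ≫ g) = 0 := by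
      intro a ha
      rw [← Category.assoc, smulMod_naturality, Category.assoc, hg a ha, comp_zero]
    obtain ⟨g', hg'⟩ := hq.fac (inv e ≫ g) h2
    exact ⟨g', by rw [Category.assoc, hg', IsIso.hom_inv_id_assoc]⟩

theorem comp_iso {q : M ⟶ N} {e : N ⟶ P} [IsIso e] (hq : IsQuot J q) : IsQuot J (q ≫ e) := by
  haveI := hq.epi
  refine ⟨epi_comp q e, ?_, ?_⟩
  · intro a ha
    rw [← Category.assoc, hq.zero a ha, zero_comp]
  · intro T g hg
    obtain ⟨g', hg'⟩ := hq.fac g hg
    exact ⟨inv e ≫ g', by rw [Category.assoc, IsIso.hom_inv_id_assoc, hg']⟩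

theorem isIso_of_killed {f : M ⟶ N} (hf : IsQuot J f) (hM : Formal.KilledBy J M) : IsIso f := by
  haveI := hf.epi
  obtain ⟨g', hg'⟩ := hf.fac (𝟙 M) (fun a ha => by rw [hM a ha, zero_comp])
  refine ⟨g', hg', ?_⟩
  rw [← cancel_epi f, ← Category.assoc, hg', Category.id_comp, Category.comp_id]

/-- Two quotients by the same ideal are canonically isomorphic. -/
theorem exists_iso {f : M ⟶ N} {f' : M ⟶ P} (hf : IsQuot J f) (hf' : IsQuot J f') :
    ∃ e : N ≅ P, f ≫ e.hom = f' := by
  haveI := hf.epi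
  haveI := hf'.epi
  obtain ⟨g, hg⟩ := hf.fac f' hf'.zero
  obtain ⟨g', hg'⟩ := hf'.fac f hf.zero
  refine ⟨⟨g, g', ?_, ?_⟩, hg⟩
  · rw [← cancel_epi f, ← Category.assoc, hg, hg', Category.comp_id]
  · rw [← cancel_epi f', ← Category.assoc, hg', hg, Category.comp_id]

end IsQuot

theorem isQuot_id {J : Ideal A} {M : X.Modules} (hM : Formal.KilledBy J M) : IsQuot J (𝟙 M) := by
  refine ⟨inferInstance, ?_, ?_⟩
  · intro a ha
    rw [hM a ha, zero_comp]
  · intro T g _
    exact ⟨g, Category.id_comp g⟩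

theorem isQuot_of_isIso {J : Ideal A} {M N : X.Modules} (f : M ⟶ N) [IsIso f]
    (hM : Formal.KilledBy J M) : IsQuot J f := by
  have := IsQuot.comp_iso (e := f) (isQuot_id hM)
  rwa [Category.id_comp] at this

end Groth.Agent.Lib.Helper23.FQuot
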