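import Groth.Agent.Lib.Helper23.Formal.Quot
import Groth.Prelude.Def_Algz

/-!
# Coherent formal systems: pro-morphisms are levelwise (helper23)
-/

set_option autoImplicit false
universe u
open CategoryTheory CategoryTheory.Limits AlgebraicGeometry Opposite

namespace Groth.Agent.Lib.Helper23.FQuot

variable {A : Type u} [CommRing A] {X : Scheme.{u}} [X.Over (Spec (CommRingCat.of A))]

/-- a system of modules which is formal for `I` (no finiteness condition) -/
def IsFormalSys (I : Ideal A) (F : ℕᵒᵖ ⥤ X.Modules) : Prop :=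
  (∀ n, Formal.KilledBy (I ^ (n + 1)) (F.obj (op n))) ∧
  ∀ n, IsQuot (I ^ (n + 1)) (F.map (homOfLE (Nat.le_succ n)).op)

theorem isFormalSys_of_isCohFormal {I : Ideal A} {F : ℕᵒᵖ ⥤ X.Modules}
    (hF : Formal.IsCohFormal I F) : IsFormalSys I F :=
  ⟨hF.2.1, fun n => (isQuot_iff _ _).2 (hF.2.2 n)⟩

theorem isFormalSys_of_isQCohFormal {I : Ideal A} {F : ℕᵒᵖ ⥤ X.Modules}
    (hF : Formal2.IsQCohFormal I F) : IsFormalSys I F :=
  ⟨hF.2.1, fun n => (isQuot_iff _ _).2 (hF.2.2 n)⟩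

theorem map_comp_of_le (F : ℕᵒᵖ ⥤ X.Modules) {k l m : ℕ} (h₁ : k ≤ l) (h₂ : l ≤ m) :
    F.map (homOfLE h₂).op ≫ F.map (homOfLE h₁).op = F.map (homOfLE (h₁.trans h₂)).op := by
  rw [← F.map_comp]
  congr 1

theorem IsFormalSys.isQuot_map {I : Ideal A} {F : ℕᵒᵖ ⥤ X.Modules} (hF : IsFormalSys I F)
    {n m : ℕ} (h : n ≤ m) : IsQuot (I ^ (n + 1)) (F.map (homOfLE h).op) := by
  induction m, h using Nat.le_induction with
  | base =>
    have : F.map (homOfLE (le_refl n)).op = 𝟙 _ := by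
      rw [← F.map_id]
      congr 1
    rw [this]
    exact isQuot_id (hF.1 n)
  | succ m h ih =>
    rw [← map_comp_of_le F h (Nat.le_succ m)]
    exact IsQuot.comp (Ideal.pow_le_pow_right (Nat.succ_le_succ h)) (hF.2 m) ih

/-- maps to a module killed by `J` factor uniquely through a `J`-quotient -/
theorem IsQuot.fac_of_killed {J : Ideal A} {M N T : X.Modules} {q : M ⟶ N} (hq : IsQuot J q)
    (hT : Formal.KilledBy J T) (g : M ⟶ T) : ∃ g' : N ⟶ T, q ≫ g' = g := by
  refine hq.fac g fun a ha => ?_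
  rw [smulMod_naturality, hT a ha, comp_zero]

theorem isIso_of_proIso_aux {J : Ideal A} {Fn Fmn Fmk Fk Gn Gk : X.Modules}
    (pn : Fmn ⟶ Fn) (pk : Fmk ⟶ Fk) (tF : Fk ⟶ Fn) (tFm : Fmk ⟶ Fmn) (tG : Gk ⟶ Gn)
    (βn : Fn ⟶ Gn) (βk : Fk ⟶ Gk) (an : Fmn ⟶ Gn) (ak : Fmk ⟶ Gk) (b : Gk ⟶ Fmn)
    (hFn : Formal.KilledBy J Fn) (hqG : IsQuot J tG) (hqF : IsQuot J (pk ≫ tF))
    (hcomm : tFm ≫ pn = pk ≫ tF) (hnat : tF ≫ βn = βk ≫ tG)
    (hn : pn ≫ βn = an) (hk : pk ≫ βk = ak) (hab : ak ≫ b = tFm) (hba : b ≫ an = tG) :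
    IsIso βn := by
  haveI := hqG.epi
  haveI := hqF.epi
  obtain ⟨γ, hγ⟩ := hqG.fac_of_killed hFn (b ≫ pn)
  refine ⟨γ, ?_, ?_⟩
  · rw [← cancel_epi (pk ≫ tF), Category.comp_id, Category.assoc, ← Category.assoc tF, hnat,
      Category.assoc, hγ, ← Category.assoc, ← Category.assoc, hk, hab, hcomm]
  · rw [← cancel_epi tG, Category.comp_id, ← Category.assoc, hγ, Category.assoc, hn, hba]

section Factor

variable {I : Ideal A} {F G : ℕᵒᵖ ⥤ X.Modules} (hF : IsFormalSys I F) (hG : IsFormalSys I G)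
  {m : ℕ → ℕ} (hm : Monotone m) (hle : ∀ n : ℕ, n ≤ m n)

theorem reindex_map (n k : ℕ) (h : n ≤ k) :
    (DerCA.reindex F hm).map (homOfLE h).op = F.map (homOfLE (hm h)).op := rfl

include hF hG in
/-- a levelwise map out of a re-indexing factors uniquely through the system itself -/
theorem existsUnique_factor (π : DerCA.reindex F hm ⟶ F)
    (hπ : ∀ n : ℕ, π.app (op n) = F.map (homOfLE (hle n)).op) (α : DerCA.reindex F hm ⟶ G) :
    ∃! β : F ⟶ G, π ≫ β = α := by
  have hq : ∀ n, IsQuot (I ^ (n + 1)) (F.map (homOfLE (hle n)).op) := fun n => hF.isQuot_map (hle n)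
  have hβ : ∀ n, ∃ b : F.obj (op n) ⟶ G.obj (op n), F.map (homOfLE (hle n)).op ≫ b = α.app (op n) :=
    fun n => (hq n).fac_of_killed (hG.1 n) (α.app (op n))
  choose b hb using hβ
  have hnat : ∀ n, F.map (homOfLE (n.le_add_right 1)).op ≫ b n =
      b (n + 1) ≫ G.map (homOfLE (n.le_add_right 1)).op := by
    intro n
    haveI := (hq (n + 1)).epi
    rw [← cancel_epi (F.map (homOfLE (hle (n + 1))).op), ← Category.assoc, ← Category.assoc, hb,
      map_comp_of_le]
    have h1 : F.map (homOfLE ((n.le_add_right 1).trans (hle (n + 1)))).op =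
        F.map (homOfLE (hm (n.le_add_right 1))).op ≫ F.map (homOfLE (hle n)).op := by
      rw [map_comp_of_le]
    rw [h1, Category.assoc, hb]
    exact α.naturality (homOfLE (n.le_add_right 1)).op
  refine ⟨NatTrans.ofOpSequence b hnat, ?_, ?_⟩
  · refine NatTrans.ext (funext fun j => ?_)
    obtain ⟨n⟩ := j
    rw [NatTrans.comp_app, hπ]
    exact hb n
  · intro β' hβ'
    refine NatTrans.ext (funext fun j => ?_)
    obtain ⟨n⟩ := j
    haveI := (hq n).epi
    rw [← cancel_epi (F.map (homOfLE (hle n)).op)]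
    have h1 : π.app (op n) ≫ β'.app (op n) = α.app (op n) := by
      rw [← NatTrans.comp_app, hβ']
    rw [hπ] at h1
    exact h1.trans (hb n).symm

/-- the canonical levelwise map from a re-indexing -/
def reindexπ (F : ℕᵒᵖ ⥤ X.Modules) {m : ℕ → ℕ} (hm : Monotone m) (hle : ∀ n : ℕ, n ≤ m n) :
    DerCA.reindex F hm ⟶ F where
  app j := F.map (homOfLE (hle j.unop)).op
  naturality j j' f := by
    change F.map _ ≫ F.map _ = F.map _ ≫ F.map f
    rw [← F.map_comp, ← F.map_comp]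
    congr 1

include hF hG in
theorem nonempty_iso_of_isProIsomorphic (h : Algz.IsProIsomorphic F G) : Nonempty (F ≅ G) := by
  obtain ⟨m, hm, hle, a, ha⟩ := h
  obtain ⟨β, hβ, -⟩ := existsUnique_factor hF hG hm hle (reindexπ F hm hle) (fun n => rfl) a
  have hβn : ∀ n, F.map (homOfLE (hle n)).op ≫ β.app (op n) = a.app (op n) := by
    intro n
    rw [← hβ]
    rfl
  have hiso : ∀ n, IsIso (β.app (op n)) := by
    intro n
    obtain ⟨k, hnk, b, hab, hba⟩ := ha n
    exact isIso_of_proIso_aux (J := I ^ (n + 1))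
      (F.map (homOfLE (hle n)).op) (F.map (homOfLE (hle k)).op) (F.map (homOfLE hnk).op)
      (F.map (homOfLE (hm hnk)).op) (G.map (homOfLE hnk).op) (β.app (op n)) (β.app (op k))
      (a.app (op n)) (a.app (op k)) b (hF.1 n) (hG.isQuot_map hnk)
      (by rw [map_comp_of_le]; exact hF.isQuot_map (hnk.trans (hle k)))
      (by rw [map_comp_of_le, map_comp_of_le])
      (β.naturality (homOfLE hnk).op) (hβn n) (hβn k) hab hba
  haveI : IsIso β := by
    haveI : ∀ j : ℕᵒᵖ, IsIso (β.app j) := fun j => hiso j.unop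
    exact NatIso.isIso_of_isIso_app β
  exact ⟨asIso β⟩

end Factor

end Groth.Agent.Lib.Helper23.FQuot
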