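import Groth.Agent.Lib.Helper23.Formal.Quot
import Groth.Agent.Lib.Helper23.Tower.QCohRlim
import Groth.Agent.Lib.Helper28.AmpleH1A
import Groth.Agent.Lib.Helper16.QCohSigma

/-!
# `IsQuot` for a finitely generated ideal, on sections over affine opens (helper23)
-/

set_option autoImplicit false
universe u
open CategoryTheory CategoryTheory.Limits AlgebraicGeometry Opposite

namespace Groth.Agent.Lib.Helper23.FQuot

attribute [local instance] Abelian.hasFiniteBiproducts

variable {A : Type u} [CommRing A] {X : Scheme.{u}} [X.Over (Spec (CommRingCat.of A))]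

/-- finite powers of a quasi-coherent module are quasi-coherent (same argument as helper26) -/
theorem isQuasicoherent_pow (G : X.Modules) [G.IsQuasicoherent] (n : ℕ) :
    (⨁ (fun _ : Fin n => G)).IsQuasicoherent := by
  haveI : ∀ i : ULift.{u} (Fin n), ((fun _ : ULift.{u} (Fin n) => G) i).IsQuasicoherent :=
    fun _ => inferInstance
  have h := Groth.Agent.Lib.Helper16.QCohSigma.isQuasicoherent_sigma
    (fun _ : ULift.{u} (Fin n) => G)
  let e : (∐ (fun _ : ULift.{u} (Fin n) => G)) ≅ ⨁ (fun _ : Fin n => G) :=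
    Sigma.reindex (Equiv.ulift : ULift.{u} (Fin n) ≃ Fin n) (fun _ : Fin n => G) ≪≫
      (biproduct.isoCoproduct (fun _ : Fin n => G)).symm
  exact (SheafOfModules.isQuasicoherent.{u} X.ringCatSheaf).prop_of_iso e h

theorem smulMod_comp_eq_zero_of_span {r : ℕ} (a : Fin r → A) {M T : X.Modules} (g : M ⟶ T)
    (h : ∀ i, Formal.smulMod A M (a i) ≫ g = 0) :
    ∀ b ∈ Ideal.span (Set.range a), Formal.smulMod A M b ≫ g = 0 := by
  intro b hb
  have hle : Ideal.span (Set.range a) ≤
      LinearMap.ker (LinearMap.toSpanSingleton A (M ⟶ T) g) := by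
    rw [Ideal.span_le]
    rintro _ ⟨i, rfl⟩
    exact h i
  exact hle hb

/-- evaluation of morphisms at a section, as an additive map -/
noncomputable def evalHom {M N : X.Modules} (U : X.Opens) (v : Γ(M, U)) : (M ⟶ N) →+ Γ(N, U) where
  toFun f := f.app U v
  map_zero' := rfl
  map_add' _ _ := rfl

theorem exists_sum_of_app_eq_zero {J : Ideal A} (hJ : J.FG) {M N : X.Modules} (t : M ⟶ N)
    (ht : IsQuot J t) [M.IsQuasicoherent] [N.IsQuasicoherent] {U : X.Opens} (hU : IsAffineOpen U)
    (y : Γ(M, U)) (hy : t.app U y = 0) :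
    ∃ (r : ℕ) (a : Fin r → A) (z : Fin r → Γ(M, U)), (∀ i, a i ∈ J) ∧
      y = ∑ i, (Formal.smulMod A M (a i)).app U (z i) := by
  obtain ⟨r, a, ha⟩ := Submodule.fg_iff_exists_fin_generating_family.1 hJ
  have ha' : Ideal.span (Set.range a) = J := ha
  have haJ : ∀ i, a i ∈ J := fun i => ha' ▸ Ideal.subset_span ⟨i, rfl⟩
  haveI := ht.epi
  let σ : (⨁ fun _ : Fin r => M) ⟶ M := biproduct.desc fun i => Formal.smulMod A M (a i)
  have hισ : ∀ i, biproduct.ι (fun _ : Fin r => M) i ≫ σ = Formal.smulMod A M (a i) := fun i =>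
    biproduct.ι_desc _ i
  have hσt : σ ≫ t = 0 := by
    apply biproduct.hom_ext'
    intro i
    rw [← Category.assoc, hισ, comp_zero]
    exact ht.zero _ (haJ i)
  have hfac : ∀ {T : X.Modules} (g' : M ⟶ T), σ ≫ g' = 0 → ∃ l : N ⟶ T, t ≫ l = g' := by
    intro T g' hg'
    refine ht.fac g' ?_
    intro b hb
    rw [← ha'] at hb
    refine smulMod_comp_eq_zero_of_span a g' (fun i => ?_) b hb
    rw [← hισ i, Category.assoc, hg', comp_zero]
  let S : ShortComplex X.Modules := ShortComplex.mk σ t hσt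
  have hS : S.Exact := by
    apply ShortComplex.exact_of_g_is_cokernel
    exact CokernelCofork.IsColimit.ofπ' t hσt (fun k hk =>
      ⟨Classical.choose (hfac k hk), Classical.choose_spec (hfac k hk)⟩)
  haveI hepi : Epi (kernel.lift t σ hσt) := S.exact_iff_epi_kernel_lift.1 hS
  haveI : (⨁ fun _ : Fin r => M).IsQuasicoherent := isQuasicoherent_pow M r
  haveI : (kernel t).IsQuasicoherent := Groth.Agent.Lib.Helper17.CohKer.isQuasicoherent_kernel t
  obtain ⟨z₀, hz₀⟩ := Groth.Agent.Lib.Helper28.AmpleH1.exists_app_eq_of_exact (kernel.ι t) t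
    (kernel.condition t) (ShortComplex.exact_of_f_is_kernel _ (kernelIsKernel t)) U y hy
  obtain ⟨v, hv⟩ := Groth.Agent.Lib.Helper23.Tower.surj_sections_of_epi (kernel.lift t σ hσt) hU z₀
  have hv' : (kernel.lift t σ hσt).app U v = z₀ := hv
  have hy1 : y = σ.app U v := by
    rw [← hz₀, ← hv']
    have := congrArg (fun φ : (⨁ fun _ : Fin r => M) ⟶ M => φ.app U v) (kernel.lift_ι t σ hσt)
    exact this
  refine ⟨r, a, fun i => (biproduct.π (fun _ : Fin r => M) i).app U v, haJ, ?_⟩
  have h1 : σ = ∑ j, biproduct.π (fun _ : Fin r => M) j ≫ Formal.smulMod A M (a j) := by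
    rw [← Category.id_comp σ, ← biproduct.total, Preadditive.sum_comp]
    refine Finset.sum_congr rfl fun j _ => ?_
    rw [Category.assoc, hισ]
  rw [hy1]
  conv_lhs => rw [h1]
  exact map_sum (evalHom (N := M) U v) _ _

end Groth.Agent.Lib.Helper23.FQuot
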