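import Groth.Agent.Lib.Helper23.Formal.MLLimit

/-!
# A Mittag-Leffler system whose limit topology is adic is pro-isomorphic to the adic tower of its limit
(helper23)
-/

set_option autoImplicit false
universe u
open CategoryTheory CategoryTheory.Limits Opposite

namespace Groth.Agent.Lib.Helper23.MLLimit

open Groth.Agent.Lib.Helper2.EssConst

variable {A : Type u} [CommRing A]

section Tower

variable (I : Ideal A) (M : ModuleCat.{u} A)

theorem pow_smul_le {k l : ℕ} (h : k ≤ l) :
    I ^ (l + 1) • (⊤ : Submodule A M) ≤ I ^ (k + 1) • (⊤ : Submodule A M) :=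
  Submodule.smul_mono_left (Ideal.pow_le_pow_right (by omega))

/-- the transition maps -/
noncomputable def qmap {k l : ℕ} (h : k ≤ l) :
    ModuleCat.of A (M ⧸ (I ^ (l + 1) • (⊤ : Submodule A M))) ⟶
      ModuleCat.of A (M ⧸ (I ^ (k + 1) • (⊤ : Submodule A M))) :=
  ModuleCat.ofHom (Submodule.factor (pow_smul_le I M h))

theorem qmap_mk {k l : ℕ} (h : k ≤ l) (y : M) :
    (qmap I M h).hom (Submodule.Quotient.mk y) = Submodule.Quotient.mk y := by
  unfold qmap
  rw [ModuleCat.hom_ofHom]
  exact Submodule.factor_mk _ y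

theorem qmap_refl (k : ℕ) : qmap I M (le_refl k) = 𝟙 _ := by
  apply ModuleCat.hom_ext
  apply LinearMap.ext
  intro x
  obtain ⟨y, rfl⟩ := Submodule.Quotient.mk_surjective _ x
  rw [qmap_mk]
  rfl

theorem qmap_comp {k l n : ℕ} (h₁ : k ≤ l) (h₂ : l ≤ n) :
    qmap I M h₂ ≫ qmap I M h₁ = qmap I M (h₁.trans h₂) := by
  apply ModuleCat.hom_ext
  apply LinearMap.ext
  intro x
  obtain ⟨y, rfl⟩ := Submodule.Quotient.mk_surjective _ x
  rw [ModuleCat.hom_comp, LinearMap.comp_apply, qmap_mk, qmap_mk, qmap_mk]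

/-- the tower `n ↦ M / I^(n+1) M` -/
noncomputable def quotTower : ℕᵒᵖ ⥤ ModuleCat.{u} A where
  obj n := ModuleCat.of A (M ⧸ (I ^ (n.unop + 1) • (⊤ : Submodule A M)))
  map {n k} f := qmap I M f.unop.le
  map_id n := qmap_refl I M n.unop
  map_comp f g := (qmap_comp I M g.unop.le f.unop.le).symm

theorem quotTower_map_mk {k l : ℕ} (h : k ≤ l) (y : M) :
    ((quotTower I M).map (homOfLE h).op).hom
      (Submodule.Quotient.mk y : M ⧸ (I ^ (l + 1) • (⊤ : Submodule A M))) =
      (Submodule.Quotient.mk y : M ⧸ (I ^ (k + 1) • (⊤ : Submodule A M))) :=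
  qmap_mk I M h y

end Tower

/-- monotone majorant -/
def msup (f : ℕ → ℕ) (n : ℕ) : ℕ := (Finset.range (n + 1)).sup f

theorem le_msup (f : ℕ → ℕ) (n : ℕ) : f n ≤ msup f n :=
  Finset.le_sup (f := f) (by simp)

theorem msup_mono (f : ℕ → ℕ) : Monotone (msup f) := fun a b h =>
  Finset.sup_mono (Finset.range_mono (by omega))

variable (X : ℕᵒᵖ ⥤ ModuleCat.{u} A) (I : Ideal A)

theorem isProIsomorphic_quotTower
    (hkill : ∀ (n : ℕ) (c : A), c ∈ I ^ (n + 1) → ∀ x : X.obj (op n), c • x = 0)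
    (hML : ML X)
    (hb : ∀ k : ℕ, ∃ n : ℕ, LinearMap.ker (π X n) ≤
      I ^ k • (⊤ : Submodule A (limit X : ModuleCat.{u} A))) :
    Algz.IsProIsomorphic X (quotTower I (limit X)) := by
  classical
  choose N0 hN0 using hb
  choose R0 hR0 hR0' using fun N => stab_eq_range hML N
  let Nb : ℕ → ℕ := fun n => max n (msup (fun j => N0 (j + 1)) n)
  have hNb_mono : Monotone Nb := fun a b h =>
    max_le_max h (msup_mono _ h)
  have hNb_le : ∀ n, n ≤ Nb n := fun n => le_max_left _ _
  have hNb0 : ∀ n, N0 (n + 1) ≤ Nb n := fun n =>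
    (le_msup (fun j => N0 (j + 1)) n).trans (le_max_right _ _)
  have hNb : ∀ n, LinearMap.ker (π X (Nb n)) ≤
      I ^ (n + 1) • (⊤ : Submodule A (limit X : ModuleCat.{u} A)) := fun n =>
    (ker_π_anti X (hNb0 n)).trans (hN0 (n + 1))
  let m : ℕ → ℕ := fun n => max n (msup (fun j => R0 (Nb j)) n)
  have hm : Monotone m := fun a b h => max_le_max h (msup_mono _ h)
  have hle : ∀ n, n ≤ m n := fun n => le_max_left _ _
  have hmR : ∀ n, R0 (Nb n) ≤ m n := fun n =>
    (le_msup (fun j => R0 (Nb j)) n).trans (le_max_right _ _)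
  have hNbm : ∀ n, Nb n ≤ m n := fun n => (hR0 (Nb n)).trans (hmR n)
  have hex : ∀ n (x : X.obj (op (m n))), ∃ y, π X (Nb n) y = t X (hNbm n) x := by
    intro n x
    have h1 : t X (hNbm n) x ∈ stab X (Nb n) := by
      rw [hR0' (Nb n) (m n) (hmR n)]
      exact ⟨x, rfl⟩
    rw [← range_π_eq_stab hML] at h1
    exact h1
  let a' : ∀ n, X.obj (op (m n)) →ₗ[A]
      ((limit X : ModuleCat.{u} A) ⧸ (I ^ (n + 1) • (⊤ : Submodule A (limit X : ModuleCat.{u} A)))) :=
    fun n => (Submodule.factor (hNb n)).comp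
      ((LinearMap.quotKerEquivRange (π X (Nb n))).symm.toLinearMap.comp
        ((t X (hNbm n)).codRestrict (LinearMap.range (π X (Nb n))) (fun x => hex n x)))
  have ha' : ∀ n (x : X.obj (op (m n))) (y : (limit X : ModuleCat.{u} A)),
      π X (Nb n) y = t X (hNbm n) x → a' n x = Submodule.Quotient.mk y := by
    intro n x y hy
    have h1 : (LinearMap.quotKerEquivRange (π X (Nb n))).symm
        ((t X (hNbm n)).codRestrict (LinearMap.range (π X (Nb n))) (fun x => hex n x) x) =
        Submodule.Quotient.mk y := by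
      rw [LinearEquiv.symm_apply_eq]
      apply Subtype.ext
      rw [LinearMap.quotKerEquivRange_apply_mk]
      exact hy.symm
    show Submodule.factor (hNb n) ((LinearMap.quotKerEquivRange (π X (Nb n))).symm _) = _
    rw [h1]
    exact Submodule.factor_mk _ y
  have hnat : ∀ (k l : ℕ) (h : k ≤ l) (x : X.obj (op (m l))),
      a' k (t X (hm h) x) = Submodule.factor (pow_smul_le I (limit X) h) (a' l x) := by
    intro k l h x
    obtain ⟨y, hy⟩ := hex l x
    rw [ha' l x y hy]
    have hy' : π X (Nb k) y = t X (hNbm k) (t X (hm h) x) := by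
      rw [← t_π X (hNb_mono h) y, hy, t_t, t_t]
    rw [ha' k _ y hy']
    exact (Submodule.factor_mk _ y).symm
  let a : DerCA.reindex X hm ⟶ quotTower I (limit X) :=
    { app := fun n => (ModuleCat.ofHom (a' n.unop) :
        (DerCA.reindex X hm).obj n ⟶ (quotTower I (limit X)).obj n)
      naturality := fun n k f => by
        apply ModuleCat.hom_ext
        apply LinearMap.ext
        intro (x : X.obj (op (m n.unop)))
        exact hnat k.unop n.unop f.unop.le x }
  refine ⟨m, hm, hle, a, fun n => ?_⟩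
  have hkk : I ^ (m n + 1) • (⊤ : Submodule A (limit X : ModuleCat.{u} A)) ≤
      LinearMap.ker (π X (m n)) := by
    rw [Submodule.smul_le]
    intro c hc y _
    rw [LinearMap.mem_ker, map_smul]
    exact hkill (m n) c hc _
  let b : (quotTower I (limit X)).obj (op (m n)) ⟶ (DerCA.reindex X hm).obj (op n) :=
    ModuleCat.ofHom (Submodule.liftQ _ (π X (m n)) hkk)
  refine ⟨m n, hle n, b, ?_, ?_⟩
  · apply ModuleCat.hom_ext
    apply LinearMap.ext
    intro (x : X.obj (op (m (m n))))
    obtain ⟨y, hy⟩ := hex (m n) x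
    show (Submodule.liftQ _ (π X (m n)) hkk) (a' (m n) x) = t X (hm (hle n)) x
    rw [ha' (m n) x y hy, Submodule.liftQ_apply, ← t_π X (hNb_le (m n)) y, hy, t_t]
  · apply ModuleCat.hom_ext
    apply LinearMap.ext
    intro x
    obtain ⟨y, rfl⟩ := Submodule.Quotient.mk_surjective _ x
    show a' n ((Submodule.liftQ _ (π X (m n)) hkk) (Submodule.Quotient.mk y)) =
      ((quotTower I (limit X)).map (homOfLE (hle n)).op).hom (Submodule.Quotient.mk y)
    rw [Submodule.liftQ_apply, ha' n _ y (t_π X (hNbm n) y).symm, quotTower_map_mk]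

end Groth.Agent.Lib.Helper23.MLLimit
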