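import Groth.Agent.Lib.Helper23.Formal.AffineExistence
import Groth.Agent.Lib.Helper23.Formal.MLProIso

/-!
# The adic tower of a module as a coherent formal module on `Spec A` (helper23)
-/

set_option autoImplicit false
universe u
open CategoryTheory CategoryTheory.Limits AlgebraicGeometry Opposite

namespace Groth.Agent.Lib.Helper23.FQuot

variable {A : Type u} [CommRing A]

attribute [local instance] specOverSelf

/-- the tilde of a module killed by `J` is killed by `J` -/
theorem killedBy_tilde (J : Ideal A) (Q : ModuleCat.{u} A)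
    (hQ : ∀ a ∈ J, ∀ x : Q, a • x = 0) :
    Formal.KilledBy J ((tilde.functor (CommRingCat.of A)).obj Q) := by
  intro a ha
  apply ((tilde.adjunction (R := CommRingCat.of A)).homEquiv Q _).injective
  have h1 := homEquiv_smulMod_comp (𝟙 ((tilde.functor (CommRingCat.of A)).obj Q)) a
  rw [Category.comp_id] at h1
  rw [h1, homEquiv_zero]
  ext x
  show a • (((tilde.adjunction (R := CommRingCat.of A)).homEquiv Q _) (𝟙 _)).hom x = 0
  rw [← map_smul, hQ a ha x, map_zero]

/-- the tilde of a surjection with kernel inside `J M` onto a module killed by `J` is a `J`-quotient -/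
theorem isQuot_tilde_map (J : Ideal A) {M N : ModuleCat.{u} A} (p : M ⟶ N)
    (hN : ∀ a ∈ J, ∀ x : N, a • x = 0) (hp : Function.Surjective p.hom)
    (hker : LinearMap.ker p.hom ≤ J • (⊤ : Submodule A M)) :
    IsQuot J ((tilde.functor (CommRingCat.of A)).map p) := by
  haveI : ((tilde.functor (CommRingCat.of A)).obj N).IsQuasicoherent :=
    inferInstanceAs ((tilde (R := CommRingCat.of A) N).IsQuasicoherent)
  let u := (tilde.adjunction (R := CommRingCat.of A)).unit.app N
  haveI : IsIso u := by
    have : u = (tilde.toTildeΓNatIso (R := CommRingCat.of A)).hom.app N := rfl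
    rw [this]
    infer_instance
  have hu : Function.Bijective u.hom := (ConcreteCategory.isIso_iff_bijective u).1 inferInstance
  have h := isQuot_of_tilde (killedBy_tilde J N hN) (p ≫ u) (hu.2.comp hp) (by
    intro x hx
    apply hker
    rw [LinearMap.mem_ker] at hx ⊢
    apply hu.1
    rw [map_zero]
    exact hx)
  have e : ((tilde.adjunction (R := CommRingCat.of A)).homEquiv M _).symm (p ≫ u) =
      (tilde.functor (CommRingCat.of A)).map p := by
    rw [Equiv.symm_apply_eq, Adjunction.homEquiv_unit, Adjunction.unit_naturality]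
  rw [e] at h
  exact h

section Tower

open Groth.Agent.Lib.Helper23.MLLimit

variable (I : Ideal A) (M : ModuleCat.{u} A)

theorem isCohFormal_quotTower_tilde
    (hfin : ∀ n : ℕ, Module.Finite A (M ⧸ (I ^ (n + 1) • (⊤ : Submodule A M)))) :
    Formal.IsCohFormal I (quotTower I M ⋙ tilde.functor (CommRingCat.of A)) := by
  have hkill' : ∀ n : ℕ, ∀ a ∈ I ^ (n + 1),
      ∀ x : M ⧸ (I ^ (n + 1) • (⊤ : Submodule A M)), a • x = 0 := by
    intro n a ha x
    obtain ⟨y, rfl⟩ := Submodule.Quotient.mk_surjective _ x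
    rw [← Submodule.Quotient.mk_smul, Submodule.Quotient.mk_eq_zero]
    exact Submodule.smul_mem_smul ha trivial
  have hkill : ∀ n : ℕ, ∀ a ∈ I ^ (n + 1), ∀ x : (quotTower I M).obj (op n), a • x = 0 :=
    fun n a ha x => hkill' n a ha x
  refine ⟨fun n => ?_, fun n => killedBy_tilde _ _ (hkill n), fun n => ?_⟩
  · haveI : Module.Finite A ((quotTower I M).obj (op n)) := hfin n
    exact isCoh_tilde_of_finite _
  · rw [← isQuot_iff]
    refine isQuot_tilde_map (I ^ (n + 1)) ((quotTower I M).map (homOfLE (Nat.le_succ n)).op)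
      (hkill n) ?_ ?_
    · intro (x : M ⧸ (I ^ (n + 1) • (⊤ : Submodule A M)))
      obtain ⟨y, rfl⟩ := Submodule.Quotient.mk_surjective _ x
      exact ⟨(Submodule.Quotient.mk y : M ⧸ (I ^ (n + 1 + 1) • (⊤ : Submodule A M))),
        quotTower_map_mk I M _ y⟩
    · intro (x : M ⧸ (I ^ (n + 1 + 1) • (⊤ : Submodule A M))) hx
      obtain ⟨y, rfl⟩ := Submodule.Quotient.mk_surjective _ x
      have hx' : (Submodule.Quotient.mk y : M ⧸ (I ^ (n + 1) • (⊤ : Submodule A M))) = 0 :=
        (quotTower_map_mk I M (Nat.le_succ n) y).symm.trans (LinearMap.mem_ker.1 hx)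
      rw [Submodule.Quotient.mk_eq_zero] at hx'
      replace hx := hx'
      have h1 : (I ^ (n + 1) • (⊤ : Submodule A M)).map
          (Submodule.mkQ (I ^ (n + 1 + 1) • (⊤ : Submodule A M))) ≤
          I ^ (n + 1) • (⊤ : Submodule A (M ⧸ (I ^ (n + 1 + 1) • (⊤ : Submodule A M)))) := by
        rw [Submodule.map_smul'']
        exact Submodule.smul_mono le_rfl le_top
      exact h1 ⟨y, hx, rfl⟩

end Tower

end Groth.Agent.Lib.Helper23.FQuot
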