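import Mathlib
import Groth.Prelude.Def_Coh
import Groth.Agent.Lib.Helper17.CohKer
import Groth.Agent.Lib.Helper28.RelTildeMap
import Groth.Agent.Lib.Helper29.QCohExact

/-!
# Coherence of restrictions of tilde modules (helper23)
-/

set_option autoImplicit false
universe u
open CategoryTheory CategoryTheory.Limits AlgebraicGeometry Opposite

namespace Groth.Agent.Lib.Helper23.CohRT

variable {A : Type u} [CommRing A]

/-- tilde preserves monomorphisms -/
theorem mono_tilde_map {B C : ModuleCat.{u} A} (i : B ⟶ C) [Mono i] :
    Mono ((tilde.functor (CommRingCat.of A)).map i) := by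
  set φ := (tilde.functor (CommRingCat.of A)).map i with hφ
  haveI : ((tilde.functor (CommRingCat.of A)).obj B).IsQuasicoherent :=
    inferInstanceAs ((tilde (R := CommRingCat.of A) B).IsQuasicoherent)
  haveI : ((tilde.functor (CommRingCat.of A)).obj C).IsQuasicoherent :=
    inferInstanceAs ((tilde (R := CommRingCat.of A) C).IsQuasicoherent)
  haveI : (kernel φ).IsQuasicoherent := Groth.Agent.Lib.Helper17.CohKer.isQuasicoherent_kernel φ
  haveI : IsIso ((tilde.adjunction (R := CommRingCat.of A)).counit.app (kernel φ)) :=
    Scheme.Modules.isIso_fromTildeΓ_of_isQuasicoherent (kernel φ)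
  haveI : IsIso ((tilde.adjunction (R := CommRingCat.of A)).unit.app B) := by
    have : (tilde.adjunction (R := CommRingCat.of A)).unit.app B =
        (tilde.toTildeΓNatIso (R := CommRingCat.of A)).hom.app B := rfl
    rw [this]
    infer_instance
  haveI : IsIso ((tilde.adjunction (R := CommRingCat.of A)).unit.app C) := by
    have : (tilde.adjunction (R := CommRingCat.of A)).unit.app C =
        (tilde.toTildeΓNatIso (R := CommRingCat.of A)).hom.app C := rfl
    rw [this]
    infer_instance
  haveI : (moduleSpecΓFunctor (R := CommRingCat.of A)).IsRightAdjoint :=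
    (tilde.adjunction (R := CommRingCat.of A)).isRightAdjoint
  haveI : (moduleSpecΓFunctor (R := CommRingCat.of A)).PreservesZeroMorphisms :=
    Functor.preservesZeroMorphisms_of_isRightAdjoint _
  haveI : (tilde.functor (CommRingCat.of A)).IsLeftAdjoint :=
    (tilde.adjunction (R := CommRingCat.of A)).isLeftAdjoint
  haveI : (tilde.functor (CommRingCat.of A)).PreservesZeroMorphisms :=
    Functor.preservesZeroMorphisms_of_isLeftAdjoint _
  -- Γ(φ) is a monomorphism
  have hnat : (tilde.adjunction (R := CommRingCat.of A)).unit.app B ≫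
      (moduleSpecΓFunctor (R := CommRingCat.of A)).map φ =
      i ≫ (tilde.adjunction (R := CommRingCat.of A)).unit.app C :=
    ((tilde.adjunction (R := CommRingCat.of A)).unit.naturality i).symm
  haveI : Mono ((moduleSpecΓFunctor (R := CommRingCat.of A)).map φ) := by
    have : (moduleSpecΓFunctor (R := CommRingCat.of A)).map φ =
        inv ((tilde.adjunction (R := CommRingCat.of A)).unit.app B) ≫
          i ≫ (tilde.adjunction (R := CommRingCat.of A)).unit.app C := by
      rw [← hnat, IsIso.inv_hom_id_assoc]
    rw [this]
    have hmC : Mono ((tilde.adjunction (R := CommRingCat.of A)).unit.app C) :=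
      IsIso.mono_of_iso _
    have hmB : Mono (inv ((tilde.adjunction (R := CommRingCat.of A)).unit.app B)) :=
      IsIso.mono_of_iso _
    have h12 : Mono (i ≫ (tilde.adjunction (R := CommRingCat.of A)).unit.app C) :=
      @mono_comp _ _ _ _ _ i inferInstance _ hmC
    exact @mono_comp _ _ _ _ _ _ hmB _ h12
  have h0 : (moduleSpecΓFunctor (R := CommRingCat.of A)).map (kernel.ι φ) = 0 := by
    rw [← cancel_mono ((moduleSpecΓFunctor (R := CommRingCat.of A)).map φ), ← Functor.map_comp,
      kernel.condition, zero_comp, Functor.map_zero]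
  have h1 : (tilde.adjunction (R := CommRingCat.of A)).counit.app (kernel φ) ≫ kernel.ι φ = 0 := by
    have := (tilde.adjunction (R := CommRingCat.of A)).counit.naturality (kernel.ι φ)
    rw [Functor.id_map] at this
    rw [← this, Functor.comp_map, h0, Functor.map_zero, zero_comp]
  have h2 : kernel.ι φ = 0 := by
    rw [← cancel_epi ((tilde.adjunction (R := CommRingCat.of A)).counit.app (kernel φ)), h1,
      comp_zero]
  exact Preadditive.mono_of_kernel_zero h2

/-- restriction along an open immersion preserves monomorphisms -/
theorem mono_restrict_map {X Y : Scheme.{u}} (f : X ⟶ Y) [IsOpenImmersion f] {M N : Y.Modules}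
    (φ : M ⟶ N) [Mono φ] : Mono ((Scheme.Modules.restrictFunctor f).map φ) := by
  apply Groth.Agent.Lib.Helper28.QCohLoc.mono_of_injective
  intro U
  exact Groth.Agent.Lib.Helper29.QCohStalk.injective_app_of_mono φ inferInstance (f ''ᵁ U)

variable {Y : Scheme.{u}} (j : Y ⟶ Spec (CommRingCat.of A)) [IsOpenImmersion j]

/-- the restriction of `B~` is coherent when `B` embeds into the sections of a coherent module -/
theorem isCoh_restrict_tilde_of_injective [IsLocallyNoetherian Y] (F : Y.Modules) (hF : Coh.IsCoh F)
    [((Scheme.Modules.pushforward j).obj F).IsQuasicoherent] {B : ModuleCat.{u} A}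
    (i : B ⟶ (moduleSpecΓFunctor (R := CommRingCat.of A)).obj ((Scheme.Modules.pushforward j).obj F))
    [Mono i] :
    Coh.IsCoh ((Scheme.Modules.restrictFunctor j).obj ((tilde.functor (CommRingCat.of A)).obj B)) := by
  haveI : F.IsQuasicoherent := hF.1
  haveI : SheafOfModules.IsFiniteType.{u} (R := Y.ringCatSheaf) F := hF.2
  haveI : ((tilde.functor (CommRingCat.of A)).obj B).IsQuasicoherent :=
    inferInstanceAs ((tilde (R := CommRingCat.of A) B).IsQuasicoherent)
  haveI hq : ((Scheme.Modules.restrictFunctor j).obj
      ((tilde.functor (CommRingCat.of A)).obj B)).IsQuasicoherent := inferInstance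
  haveI := mono_tilde_map i
  haveI := mono_restrict_map j ((tilde.functor (CommRingCat.of A)).map i)
  haveI : IsIso ((tilde.adjunction (R := CommRingCat.of A)).counit.app
      ((Scheme.Modules.pushforward j).obj F)) :=
    Scheme.Modules.isIso_fromTildeΓ_of_isQuasicoherent ((Scheme.Modules.pushforward j).obj F)
  haveI : IsIso (Scheme.Modules.restrictAdjunction j).counit :=
    inferInstanceAs (IsIso (Scheme.Modules.restrictAdjunction j).counit)
  let ι : (Scheme.Modules.restrictFunctor j).obj ((tilde.functor (CommRingCat.of A)).obj B) ⟶ F :=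
    (Scheme.Modules.restrictFunctor j).map ((tilde.functor (CommRingCat.of A)).map i) ≫
      (Scheme.Modules.restrictFunctor j).map ((tilde.adjunction (R := CommRingCat.of A)).counit.app
        ((Scheme.Modules.pushforward j).obj F)) ≫
      (Scheme.Modules.restrictAdjunction j).counit.app F
  haveI : Mono ι := mono_comp _ _
  exact ⟨hq, Groth.Agent.Lib.Helper17.CohKer.isFiniteType_of_mono ι⟩

/-- quotients -/
theorem isCoh_restrict_tilde_of_epi {B Q : ModuleCat.{u} A} (q : B ⟶ Q) [Epi q]
    (hB : Coh.IsCoh ((Scheme.Modules.restrictFunctor j).obj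
      ((tilde.functor (CommRingCat.of A)).obj B))) :
    Coh.IsCoh ((Scheme.Modules.restrictFunctor j).obj ((tilde.functor (CommRingCat.of A)).obj Q)) := by
  haveI : ((tilde.functor (CommRingCat.of A)).obj Q).IsQuasicoherent :=
    inferInstanceAs ((tilde (R := CommRingCat.of A) Q).IsQuasicoherent)
  haveI hq : ((Scheme.Modules.restrictFunctor j).obj
      ((tilde.functor (CommRingCat.of A)).obj Q)).IsQuasicoherent := inferInstance
  haveI : SheafOfModules.IsFiniteType.{u} (R := Y.ringCatSheaf)
    ((Scheme.Modules.restrictFunctor j).obj ((tilde.functor (CommRingCat.of A)).obj B)) := hB.2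
  haveI : (tilde.functor (CommRingCat.of A)).PreservesEpimorphisms :=
    Functor.preservesEpimorphisms_of_adjunction (tilde.adjunction (R := CommRingCat.of A))
  haveI : (Scheme.Modules.restrictFunctor j).PreservesEpimorphisms :=
    Functor.preservesEpimorphisms_of_adjunction (Scheme.Modules.restrictAdjunction j)
  haveI : Epi ((Scheme.Modules.restrictFunctor j).map ((tilde.functor (CommRingCat.of A)).map q)) :=
    inferInstance
  exact ⟨hq, Groth.Agent.Lib.Helper17.CohKer.isFiniteType_of_epi
    ((Scheme.Modules.restrictFunctor j).map ((tilde.functor (CommRingCat.of A)).map q))⟩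

end Groth.Agent.Lib.Helper23.CohRT
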