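import Mathlib
import Groth.Agent.Lib.Helper28.QCohPush

/-!
# Epimorphy of the map `M~|_V ⟶ F` adjoint to `M ⟶ Γ(Spec A, j_* F)` (helper23)
-/

set_option autoImplicit false
universe u
open CategoryTheory CategoryTheory.Limits AlgebraicGeometry Opposite

namespace Groth.Agent.Lib.Helper23.EpiAdjoint

section Abstract

universe v₁ v₂ v₃ u₁ u₂ u₃

variable {𝓜 : Type u₁} [Category.{v₁} 𝓜] {𝓢 : Type u₂} [Category.{v₂} 𝓢] {𝓨 : Type u₃}
  [Category.{v₃} 𝓨] {T : 𝓜 ⥤ 𝓢} {Γ' : 𝓢 ⥤ 𝓜} (adj : T ⊣ Γ') {R : 𝓢 ⥤ 𝓨} {P : 𝓨 ⥤ 𝓢} (adj' : R ⊣ P)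

theorem epi_of_epi_comp_iso {C : Type*} [Category C] {X Y Z : C} (a : X ⟶ Y) (κ : Y ⟶ Z) [IsIso κ]
    [Epi (a ≫ κ)] : Epi a := by
  have : a = (a ≫ κ) ≫ inv κ := by simp
  rw [this]
  infer_instance

include adj adj' in
theorem epi_abstract {F' F : 𝓨} (g : F' ⟶ F) [Epi g]
    [IsIso (adj.counit.app (P.obj F))] [IsIso (adj.counit.app (P.obj F'))]
    [IsIso (adj'.counit.app F)] [IsIso (adj'.counit.app F')]
    {M S : 𝓜} (p : M ⟶ Γ'.obj (P.obj F)) (i : S ⟶ Γ'.obj (P.obj F))
    (t' : Γ'.obj (P.obj F') ⟶ S) (p' : M ⟶ S) [Epi p']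
    (hti : t' ≫ i = Γ'.map (P.map g)) (hpi : p' ≫ i = p) :
    Epi ((adj'.homEquiv _ F).symm ((adj.homEquiv M (P.obj F)).symm p)) := by
  rw [Adjunction.homEquiv_counit, Adjunction.homEquiv_counit]
  haveI : T.PreservesEpimorphisms := Functor.preservesEpimorphisms_of_adjunction adj
  haveI : R.PreservesEpimorphisms := Functor.preservesEpimorphisms_of_adjunction adj'
  suffices Epi (R.map (T.map p)) by
    rw [R.map_comp]
    infer_instance
  -- step 1
  have h1 : Epi (R.map (T.map (Γ'.map (P.map g)))) := by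
    have nat1 : T.map (Γ'.map (P.map g)) ≫ adj.counit.app (P.obj F) =
        adj.counit.app (P.obj F') ≫ P.map g := adj.counit.naturality (P.map g)
    have nat2 : R.map (P.map g) ≫ adj'.counit.app F = adj'.counit.app F' ≫ g :=
      adj'.counit.naturality g
    haveI : Epi (R.map (T.map (Γ'.map (P.map g))) ≫
        (R.map (adj.counit.app (P.obj F)) ≫ adj'.counit.app F)) := by
      rw [← Category.assoc, ← R.map_comp, nat1, R.map_comp, Category.assoc, nat2]
      infer_instance
    exact epi_of_epi_comp_iso _ (R.map (adj.counit.app (P.obj F)) ≫ adj'.counit.app F)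
  -- step 2
  haveI : Epi (R.map (T.map t') ≫ R.map (T.map i)) := by
    rw [← R.map_comp, ← T.map_comp, hti]
    exact h1
  haveI : Epi (R.map (T.map i)) := epi_of_epi (R.map (T.map t')) _
  rw [← hpi, T.map_comp, R.map_comp]
  infer_instance

end Abstract

variable {A : Type u} [CommRing A] {Y : Scheme.{u}} (j : Y ⟶ Spec (CommRingCat.of A))
  [IsOpenImmersion j]

/-- if `F' ⟶ F` is an epimorphism, the direct images are quasi-coherent, and the image of
`Γ(j_* F') ⟶ Γ(j_* F)` lies in the image of `p : M ⟶ Γ(j_* F)`, then the adjoint `M~|_V ⟶ F` of `p`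
is an epimorphism -/
theorem epi_of_range_le {F' F : Y.Modules} (g : F' ⟶ F) [Epi g]
    [((Scheme.Modules.pushforward j).obj F').IsQuasicoherent]
    [((Scheme.Modules.pushforward j).obj F).IsQuasicoherent]
    {M : ModuleCat.{u} A}
    (p : M ⟶ (moduleSpecΓFunctor (R := CommRingCat.of A)).obj ((Scheme.Modules.pushforward j).obj F))
    (h : LinearMap.range ((moduleSpecΓFunctor (R := CommRingCat.of A)).map
      ((Scheme.Modules.pushforward j).map g)).hom ≤ LinearMap.range p.hom) :
    Epi (((Scheme.Modules.restrictAdjunction j).homEquiv _ F).symm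
      (((tilde.adjunction (R := CommRingCat.of A)).homEquiv M
        ((Scheme.Modules.pushforward j).obj F)).symm p)) := by
  haveI : IsIso ((tilde.adjunction (R := CommRingCat.of A)).counit.app
      ((Scheme.Modules.pushforward j).obj F)) :=
    Scheme.Modules.isIso_fromTildeΓ_of_isQuasicoherent ((Scheme.Modules.pushforward j).obj F)
  haveI : IsIso ((tilde.adjunction (R := CommRingCat.of A)).counit.app
      ((Scheme.Modules.pushforward j).obj F')) :=
    Scheme.Modules.isIso_fromTildeΓ_of_isQuasicoherent ((Scheme.Modules.pushforward j).obj F')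
  haveI : IsIso (Scheme.Modules.restrictAdjunction j).counit :=
    inferInstanceAs (IsIso (Scheme.Modules.restrictAdjunction j).counit)
  let S : ModuleCat.{u} A := ModuleCat.of A (LinearMap.range p.hom)
  let i : S ⟶ (moduleSpecΓFunctor (R := CommRingCat.of A)).obj
      ((Scheme.Modules.pushforward j).obj F) :=
    ModuleCat.ofHom (R := A) (X := LinearMap.range p.hom)
      (Y := (moduleSpecΓFunctor (R := CommRingCat.of A)).obj ((Scheme.Modules.pushforward j).obj F))
      (LinearMap.range p.hom).subtype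
  let t' : (moduleSpecΓFunctor (R := CommRingCat.of A)).obj
      ((Scheme.Modules.pushforward j).obj F') ⟶ S :=
    ModuleCat.ofHom (R := A)
      (X := (moduleSpecΓFunctor (R := CommRingCat.of A)).obj ((Scheme.Modules.pushforward j).obj F'))
      (Y := LinearMap.range p.hom)
      (((moduleSpecΓFunctor (R := CommRingCat.of A)).map
      ((Scheme.Modules.pushforward j).map g)).hom.codRestrict (LinearMap.range p.hom)
        (fun x => h ⟨x, rfl⟩))
  let p' : M ⟶ S := ModuleCat.ofHom p.hom.rangeRestrict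
  have hti : t' ≫ i = (moduleSpecΓFunctor (R := CommRingCat.of A)).map
      ((Scheme.Modules.pushforward j).map g) := by
    ext x
    rfl
  have hpi : p' ≫ i = p := by
    ext x
    rfl
  haveI : Epi p' := (ModuleCat.epi_iff_surjective p').2 (LinearMap.surjective_rangeRestrict _)
  exact epi_abstract (tilde.adjunction (R := CommRingCat.of A)) (Scheme.Modules.restrictAdjunction j)
    g p i t' p' hti hpi

end Groth.Agent.Lib.Helper23.EpiAdjoint
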