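import Groth.Agent.Lib.Helper23.Formal.TildeSec

/-!
# Injectivity of `((M/I^(n+1)M)~) → (N_n)` when the limit topology is adic (helper23)
-/

set_option autoImplicit false
universe u
open CategoryTheory CategoryTheory.Limits AlgebraicGeometry Opposite

namespace Groth.Agent.Lib.Helper23.TildeSec

variable {A : Type u} [CommRing A]

attribute [local instance] modA

theorem counit_app_eq (N : (Spec (CommRingCat.of A)).Modules) :
    (tilde.adjunction (R := CommRingCat.of A)).counit.app N =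
      Scheme.Modules.fromTildeΓ (R := CommRingCat.of A) N := rfl

theorem app_injective_of_isIso {M N : (Spec (CommRingCat.of A)).Modules} (φ : M ⟶ N) [IsIso φ]
    (U : (Spec (CommRingCat.of A)).Opens) : Function.Injective (φ.app U) := by
  intro a b hab
  have h1 : (φ ≫ inv φ).app U = 𝟙 _ := by
    rw [IsIso.hom_inv_id]
    rfl
  have h2 : ∀ z : Γ(M, U), (inv φ).app U (φ.app U z) = z := fun z =>
    congrArg (fun ψ : Γ(M, U) ⟶ Γ(M, U) => ψ z) h1
  rw [← h2 a, ← h2 b, hab]

/-- a section of `Q~` over `D(f)` killed by the adjoint of `ℓ : Q ⟶ Γ(N)` is, up to a power of `f`,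
the image of some `q` with `ℓ q` killed by a power of `f` -/
theorem exists_of_app_eq_zero (Q : ModuleCat.{u} A) (N : (Spec (CommRingCat.of A)).Modules)
    [N.IsQuasicoherent] (ℓ : Q ⟶ (moduleSpecΓFunctor (R := CommRingCat.of A)).obj N) (f : A)
    (x : Γ(tilde (R := CommRingCat.of A) Q, PrimeSpectrum.basicOpen f))
    (hx : (((tilde.adjunction (R := CommRingCat.of A)).homEquiv Q N).symm ℓ).app
      (PrimeSpectrum.basicOpen f) x = 0) :
    ∃ (q : Q) (k e : ℕ), f ^ k • x = toO Q (PrimeSpectrum.basicOpen f) q ∧ f ^ e • ℓ.hom q = 0 := by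
  obtain ⟨q, k, hq⟩ := exists_pow_smul_eq_toO Q f x
  refine ⟨q, k, ?_⟩
  rw [Adjunction.homEquiv_counit, counit_app_eq] at hx
  haveI : IsIso (Scheme.Modules.fromTildeΓ (R := CommRingCat.of A) N) :=
    Scheme.Modules.isIso_fromTildeΓ_of_isQuasicoherent N
  have h1 : (Scheme.Modules.fromTildeΓ (R := CommRingCat.of A) N).app (PrimeSpectrum.basicOpen f)
      ((tilde.map (R := CommRingCat.of A) ℓ).app (PrimeSpectrum.basicOpen f)
        (toO Q (PrimeSpectrum.basicOpen f) q)) = 0 := by
    rw [← hq]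
    have hx' : (Scheme.Modules.fromTildeΓ (R := CommRingCat.of A) N).app (PrimeSpectrum.basicOpen f)
      ((tilde.map (R := CommRingCat.of A) ℓ).app (PrimeSpectrum.basicOpen f) x) = 0 := hx
    have e1 := app_smul (tilde.map (R := CommRingCat.of A) ℓ) (PrimeSpectrum.basicOpen f) (f ^ k) x
    have e2 := app_smul (Scheme.Modules.fromTildeΓ (R := CommRingCat.of A) N)
      (PrimeSpectrum.basicOpen f) (f ^ k)
      ((tilde.map (R := CommRingCat.of A) ℓ).app (PrimeSpectrum.basicOpen f) x)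
    refine (congrArg ((Scheme.Modules.fromTildeΓ (R := CommRingCat.of A) N).app
      (PrimeSpectrum.basicOpen f)) e1).trans (e2.trans ?_)
    rw [hx', smul_zero]
  rw [app_toO] at h1
  have h2 := app_injective_of_isIso (Scheme.Modules.fromTildeΓ (R := CommRingCat.of A) N)
    (PrimeSpectrum.basicOpen f) (h1.trans (map_zero _).symm)
  obtain ⟨e, he⟩ := exists_pow_smul_eq_zero _ f _ h2
  exact ⟨e, hq, he⟩

/-- compatible families of sections of the `(M/I^(n+1)M)~` over `D(f)` which die in the `N_n` vanish,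
when the topology defined by the kernels of `M ⟶ Γ(N_n)` is the `I`-adic one -/
theorem eq_zero_of_compat (I : Ideal A) (M : ModuleCat.{u} A)
    (N : ℕ → (Spec (CommRingCat.of A)).Modules) [∀ n, (N n).IsQuasicoherent]
    (π : ∀ n, M ⟶ (moduleSpecΓFunctor (R := CommRingCat.of A)).obj (N n))
    (hanti : ∀ k l : ℕ, k ≤ l → LinearMap.ker (π l).hom ≤ LinearMap.ker (π k).hom)
    (hb : ∀ k : ℕ, ∃ n : ℕ, LinearMap.ker (π n).hom ≤ I ^ k • (⊤ : Submodule A M))
    (ℓ : ∀ n : ℕ, ModuleCat.of A (Formal2.quotPow A I M n) ⟶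
      (moduleSpecΓFunctor (R := CommRingCat.of A)).obj (N n))
    (hℓ : ∀ n : ℕ, ModuleCat.ofHom (Formal2.quotPowπ A I M n) ≫ ℓ n = π n)
    (f : A)
    (x : ∀ n : ℕ, Γ(Formal2.tmod A (Formal2.quotPow A I M n), PrimeSpectrum.basicOpen f))
    (hx1 : ∀ n : ℕ, (Formal2.tmodMap A (Formal2.quotPowTrans A I M n)).app
      (PrimeSpectrum.basicOpen f) (x (n + 1)) = x n)
    (hx2 : ∀ n : ℕ, (((tilde.adjunction (R := CommRingCat.of A)).homEquiv
      (ModuleCat.of A (Formal2.quotPow A I M n)) (N n)).symm (ℓ n)).app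
        (PrimeSpectrum.basicOpen f) (x n) = 0) :
    ∀ n : ℕ, x n = 0 := by
  intro n
  obtain ⟨N0, hN0⟩ := hb (n + 1)
  have hK : LinearMap.ker (π (max N0 n)).hom ≤ I ^ (n + 1) • (⊤ : Submodule A M) :=
    (hanti N0 (max N0 n) (le_max_left _ _)).trans hN0
  obtain ⟨q, k, e, hq, he⟩ := exists_of_app_eq_zero _ (N (max N0 n)) (ℓ (max N0 n)) f
    (x (max N0 n)) (hx2 (max N0 n))
  obtain ⟨μ, rfl⟩ := Submodule.Quotient.mk_surjective _ q
  have hμ : f ^ e • μ ∈ LinearMap.ker (π (max N0 n)).hom := by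
    rw [LinearMap.mem_ker, map_smul, ← hℓ (max N0 n)]
    exact he
  have hμ' : f ^ e • μ ∈ I ^ (n + 1) • (⊤ : Submodule A M) := hK hμ
  have key : ∀ (d j : ℕ), j + d = max N0 n → f ^ k • x j =
      toO (ModuleCat.of A (Formal2.quotPow A I M j)) (PrimeSpectrum.basicOpen f)
        (Submodule.Quotient.mk μ) := by
    intro d
    induction d with
    | zero =>
      intro j hj
      obtain rfl : j = max N0 n := by omega
      exact hq
    | succ d ih =>
      intro j hj
      have h1 := ih (j + 1) (by omega)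
      rw [← hx1 j, ← app_smul, h1]
      exact app_toO (ModuleCat.ofHom (Formal2.quotPowTrans A I M j)) _ _
  have h2 := key (max N0 n - n) n (by omega)
  have h3 : f ^ (e + k) • x n = 0 := by
    rw [pow_add f e k, mul_smul, h2, ← map_smul, ← Submodule.Quotient.mk_smul,
      (Submodule.Quotient.mk_eq_zero _).2 hμ', map_zero]
  exact eq_zero_of_pow_smul_eq_zero _ f (e + k) (x n) h3

end Groth.Agent.Lib.Helper23.TildeSec
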