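import Groth.Agent.Lib.Helper2.EssConst
import Groth.Agent.Lib.Helper23.Formal.AdicLimit
import Groth.Prelude.Def_Algz

/-!
# Mittag-Leffler systems of modules and their limits (helper23)

For a Mittag-Leffler inverse system `X` of modules, the image of `lim X → X_n` is the stable image.
-/

set_option autoImplicit false
universe u
open CategoryTheory CategoryTheory.Limits Opposite

namespace Groth.Agent.Lib.Helper23.MLLimit

open Groth.Agent.Lib.Helper2.EssConst

variable {A : Type u} [CommRing A]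

section Image

theorem range_le_of_imageSubobject_le {B B' C : ModuleCat.{u} A} (f : B ⟶ C) (g : B' ⟶ C)
    (h : imageSubobject f ≤ imageSubobject g) :
    LinearMap.range f.hom ≤ LinearMap.range g.hom := by
  rintro _ ⟨x, rfl⟩
  have hsurj : Function.Surjective (factorThruImageSubobject g).hom :=
    (ModuleCat.epi_iff_surjective _).1 inferInstance
  obtain ⟨y, hy⟩ := hsurj ((Subobject.ofLE _ _ h).hom ((factorThruImageSubobject f).hom x))
  refine ⟨y, ?_⟩
  have e1 : factorThruImageSubobject g ≫ (imageSubobject g).arrow = g := imageSubobject_arrow_comp g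
  have e2 : factorThruImageSubobject f ≫ Subobject.ofLE _ _ h ≫ (imageSubobject g).arrow = f := by
    rw [Subobject.ofLE_arrow, imageSubobject_arrow_comp]
  have h1 : g.hom y = (imageSubobject g).arrow.hom ((factorThruImageSubobject g).hom y) :=
    (congrArg (fun φ => φ.hom y) e1).symm
  have h2 : f.hom x = (imageSubobject g).arrow.hom ((Subobject.ofLE _ _ h).hom
      ((factorThruImageSubobject f).hom x)) :=
    (congrArg (fun φ => φ.hom x) e2).symm
  rw [h1, h2, hy]

theorem range_eq_of_imageSubobject_eq {B B' C : ModuleCat.{u} A} (f : B ⟶ C) (g : B' ⟶ C)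
    (h : imageSubobject f = imageSubobject g) :
    LinearMap.range f.hom = LinearMap.range g.hom :=
  le_antisymm (range_le_of_imageSubobject_le f g h.le) (range_le_of_imageSubobject_le g f h.ge)

end Image

variable (X : ℕᵒᵖ ⥤ ModuleCat.{u} A)

section Limit

/-- the projection from the limit, as a linear map -/
noncomputable def π (n : ℕ) : (limit X : ModuleCat.{u} A) →ₗ[A] X.obj (op n) := (limit.π X (op n)).hom

theorem t_π {k l : ℕ} (h : k ≤ l) (y : (limit X : ModuleCat.{u} A)) : t X h (π X l y) = π X k y :=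
  congrArg (fun φ => φ.hom y) (limit.w X (homOfLE h).op)

theorem ker_π_anti {k l : ℕ} (h : k ≤ l) : LinearMap.ker (π X l) ≤ LinearMap.ker (π X k) := by
  intro y hy
  rw [LinearMap.mem_ker] at hy ⊢
  rw [← t_π X h, hy, map_zero]

/-- the tower of `X` in the sense of `AdicLimit` -/
noncomputable def T (k m : ℕ) (h : k ≤ m) : X.obj (op m) →ₗ[A] X.obj (op k) := t X h

/-- the cone of compatible families -/
noncomputable def famCone : Cone X where
  pt := ModuleCat.of A (AdicLimit.L (T X))
  π := NatTrans.ofOpSequence (fun n => ModuleCat.ofHom (AdicLimit.p (T X) n)) (fun n => by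
    dsimp only [Functor.const_obj_obj, Functor.const_obj_map]
    rw [Category.id_comp]
    ext x
    exact (x.2 n).symm)

/-- a compatible family gives an element of the limit -/
theorem exists_limit_elt (x : ∀ n, X.obj (op n))
    (hx : ∀ n, t X (Nat.le_succ n) (x (n + 1)) = x n) :
    ∃ y : (limit X : ModuleCat.{u} A), ∀ n, π X n y = x n := by
  refine ⟨(limit.lift X (famCone X)).hom ⟨x, hx⟩, fun n => ?_⟩
  have := congrArg (fun φ => φ.hom (⟨x, hx⟩ : AdicLimit.L (T X))) (limit.lift_π (famCone X) (op n))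
  exact this

end Limit

section Stab

/-- the eventual image -/
noncomputable def stab (n : ℕ) : Submodule A (X.obj (op n)) :=
  ⨅ (j : ℕ) (h : n ≤ j), LinearMap.range (t X h)

theorem mem_stab_iff {n : ℕ} (z : X.obj (op n)) :
    z ∈ stab X n ↔ ∀ (j : ℕ) (h : n ≤ j), z ∈ LinearMap.range (t X h) := by
  unfold stab
  simp only [Submodule.mem_iInf]

theorem t_mem_stab {k m : ℕ} (h : k ≤ m) {z : X.obj (op m)} (hz : z ∈ stab X m) :
    t X h z ∈ stab X k := by
  rw [mem_stab_iff] at hz ⊢
  intro j hj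
  by_cases hmj : m ≤ j
  · obtain ⟨x, rfl⟩ := hz j hmj
    exact ⟨x, (t_t X h hmj x).symm⟩
  · have hjm : j ≤ m := by omega
    exact ⟨t X hjm z, t_t X hj hjm z⟩

theorem range_π_le_stab (n : ℕ) : LinearMap.range (π X n) ≤ stab X n := by
  rintro _ ⟨y, rfl⟩
  rw [mem_stab_iff]
  intro j hj
  exact ⟨π X j y, t_π X hj y⟩

/-- the Mittag-Leffler condition in terms of ranges -/
def ML : Prop := ∀ n : ℕ, ∃ R : ℕ, ∃ hR : n ≤ R, ∀ (j : ℕ) (hj : R ≤ j),
  LinearMap.range (t X (hR.trans hj)) = LinearMap.range (t X hR)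

theorem ml_of_isML (h : ARSys.IsML X) : ML X := by
  intro n
  obtain ⟨r, hr⟩ := h n
  refine ⟨n + r, Nat.le_add_right n r, fun j hj => ?_⟩
  obtain ⟨s, rfl⟩ : ∃ s, j = n + s := ⟨j - n, by omega⟩
  have := hr s (by omega)
  exact range_eq_of_imageSubobject_eq _ _ this

variable {X}

theorem stab_eq_range (hML : ML X) (n : ℕ) :
    ∃ R : ℕ, ∃ hR : n ≤ R, ∀ (j : ℕ) (hj : R ≤ j), stab X n = LinearMap.range (t X (hR.trans hj)) := by
  obtain ⟨R, hR, h⟩ := hML n
  refine ⟨R, hR, fun j hj => ?_⟩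
  apply le_antisymm
  · intro z hz
    exact (mem_stab_iff X z).1 hz j (hR.trans hj)
  · rintro _ ⟨x, rfl⟩
    rw [mem_stab_iff]
    intro j' hj'
    by_cases hjj' : j' ≤ j
    · exact ⟨t X hjj' x, t_t X hj' hjj' x⟩
    · have hj2 : R ≤ j' := by omega
      have h1 : t X (hR.trans hj) x ∈ LinearMap.range (t X (hR.trans hj)) := ⟨x, rfl⟩
      rw [h j hj, ← h j' hj2] at h1
      exact h1

theorem stab_surj (hML : ML X) (n : ℕ) (z : X.obj (op n)) (hz : z ∈ stab X n) :
    ∃ z' : X.obj (op (n + 1)), z' ∈ stab X (n + 1) ∧ t X (Nat.le_succ n) z' = z := by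
  obtain ⟨R, hR, h⟩ := stab_eq_range hML (n + 1)
  have hz' := (mem_stab_iff X z).1 hz R ((Nat.le_succ n).trans hR)
  obtain ⟨x, rfl⟩ := hz'
  refine ⟨t X hR x, ?_, t_t X _ _ x⟩
  rw [h R le_rfl]
  exact ⟨x, rfl⟩

/-- for a Mittag-Leffler system, the image of the limit is the eventual image -/
theorem range_π_eq_stab (hML : ML X) (n : ℕ) : LinearMap.range (π X n) = stab X n := by
  apply le_antisymm (range_π_le_stab X n)
  intro z hz
  -- the tower of eventual images
  let T' : ∀ k m : ℕ, k ≤ m → (stab X m →ₗ[A] stab X k) := fun k m h =>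
    (t X h).restrict (fun z hz => t_mem_stab X h hz)
  have T'_refl : ∀ m (x : stab X m), T' m m le_rfl x = x := fun m x =>
    Subtype.ext (t_refl X le_rfl x.1)
  have T'_trans : ∀ (k l m : ℕ) (h₁ : k ≤ l) (h₂ : l ≤ m) (x : stab X m),
      T' k l h₁ (T' l m h₂ x) = T' k m (h₁.trans h₂) x := fun k l m h₁ h₂ x =>
    Subtype.ext (t_t X h₁ h₂ x.1)
  have hsurj : ∀ m, Function.Surjective (T' m (m + 1) (Nat.le_succ m)) := by
    intro m ⟨z, hz⟩
    obtain ⟨z', hz', h⟩ := stab_surj hML m z hz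
    exact ⟨⟨z', hz'⟩, Subtype.ext h⟩
  obtain ⟨x, hx, hxn⟩ := AdicLimit.exists_lift T' T'_refl T'_trans hsurj n ⟨z, hz⟩
  obtain ⟨y, hy⟩ := exists_limit_elt X (fun k => (x k).1) (fun k => congrArg Subtype.val (hx k))
  refine ⟨y, ?_⟩
  rw [hy n, hxn]

end Stab

end Groth.Agent.Lib.Helper23.MLLimit
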