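import Mathlib
import Groth.Prelude.Def_Algz

/-!
# Pro-isomorphic inverse systems have isomorphic limits (helper23)
-/

set_option autoImplicit false
universe v u
open CategoryTheory CategoryTheory.Limits Opposite

namespace Groth.Agent.Lib.Helper23.ProLimit

variable {C : Type u} [Category.{v} C]

section Clean

variable (X Y : ℕᵒᵖ ⥤ C)

theorem tr_tr (X : ℕᵒᵖ ⥤ C) {k l n : ℕ} (h₁ : k ≤ l) (h₂ : l ≤ n) :
    X.map (homOfLE h₂).op ≫ X.map (homOfLE h₁).op = X.map (homOfLE (h₁.trans h₂)).op := by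
  rw [← X.map_comp]
  rfl

theorem π_tr (X : ℕᵒᵖ ⥤ C) [HasLimit X] {k l : ℕ} (h : k ≤ l) :
    limit.π X (op l) ≫ X.map (homOfLE h).op = limit.π X (op k) :=
  limit.w X (homOfLE h).op

variable [HasLimit X] [HasLimit Y]

/-- clean form: a pro-isomorphism data between `X` and `Y` induces an isomorphism of limits -/
theorem exists_limit_iso_aux (m : ℕ → ℕ) (hm : Monotone m) (hle : ∀ n, n ≤ m n)
    (a : ∀ n, X.obj (op (m n)) ⟶ Y.obj (op n))
    (hnat : ∀ (k l : ℕ) (h : k ≤ l),
      a l ≫ Y.map (homOfLE h).op = X.map (homOfLE (hm h)).op ≫ a k)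
    (ha : ∀ n, ∃ (k : ℕ) (h : n ≤ k) (b : Y.obj (op k) ⟶ X.obj (op (m n))),
      a k ≫ b = X.map (homOfLE (hm h)).op ∧ b ≫ a n = Y.map (homOfLE h).op) :
    ∃ e : limit X ≅ limit Y, ∀ n, e.hom ≫ limit.π Y (op n) = limit.π X (op (m n)) ≫ a n := by
  choose k hk b hab hba using ha
  -- key lemma
  have KL : ∀ (n N : ℕ) (hN : k n ≤ N),
      limit.π Y (op (k N)) ≫ b N ≫ X.map (homOfLE (hm ((hk n).trans hN))).op =
        limit.π Y (op (k n)) ≫ b n := by
    intro n N hN
    have h1 : limit.π Y (op (k n)) =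
        limit.π Y (op (k N)) ≫ b N ≫ X.map (homOfLE (hm hN)).op ≫ a (k n) := by
      rw [← hnat (k n) N hN, ← Category.assoc (b N), hba N, tr_tr, π_tr]
    conv_rhs => rw [h1]
    simp only [Category.assoc]
    rw [hab n, tr_tr]
  -- the forward map
  let φ : limit X ⟶ limit Y := limit.lift Y
    { pt := limit X
      π := NatTrans.ofOpSequence (fun n => limit.π X (op (m n)) ≫ a n) (fun n => by
        dsimp
        rw [Category.id_comp, Category.assoc]
        have := hnat n (n + 1) (Nat.le_succ n)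
        rw [this, ← Category.assoc, π_tr]) }
  have hφ : ∀ n, φ ≫ limit.π Y (op n) = limit.π X (op (m n)) ≫ a n := fun n => by
    simp [φ]
  -- the backward map
  let leg : ∀ n, limit Y ⟶ X.obj (op n) := fun n =>
    limit.π Y (op (k n)) ≫ b n ≫ X.map (homOfLE (hle n)).op
  have hleg : ∀ (n N : ℕ) (hN : k n ≤ N),
      leg n = limit.π Y (op (k N)) ≫ b N ≫ X.map (homOfLE ((hle n).trans (hm ((hk n).trans hN)))).op := by
    intro n N hN
    show limit.π Y (op (k n)) ≫ b n ≫ X.map (homOfLE (hle n)).op = _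
    rw [← Category.assoc, ← KL n N hN]
    simp only [Category.assoc]
    rw [tr_tr]
  let ψ : limit Y ⟶ limit X := limit.lift X
    { pt := limit Y
      π := NatTrans.ofOpSequence leg (fun n => by
        dsimp
        rw [Category.id_comp]
        rw [hleg n (max (k n) (k (n + 1))) (le_max_left _ _),
          hleg (n + 1) (max (k n) (k (n + 1))) (le_max_right _ _)]
        simp only [Category.assoc]
        rw [tr_tr]) }
  have hψ : ∀ n, ψ ≫ limit.π X (op n) = leg n := fun n => by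
    simp [ψ]
  have hψ' : ∀ n, ψ ≫ limit.π X (op (m n)) = limit.π Y (op (k n)) ≫ b n := by
    intro n
    rw [hψ, hleg (m n) (max (k n) (k (m n))) (le_max_right _ _), ← KL n _ (le_max_left _ _)]
  refine ⟨⟨φ, ψ, ?_, ?_⟩, hφ⟩
  · apply limit.hom_ext
    rintro ⟨n⟩
    rw [Category.assoc, Category.id_comp, hψ]
    show φ ≫ limit.π Y (op (k n)) ≫ b n ≫ X.map (homOfLE (hle n)).op = _
    rw [← Category.assoc, hφ, Category.assoc, ← Category.assoc (a (k n)), hab n, tr_tr, π_tr]
  · apply limit.hom_ext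
    rintro ⟨n⟩
    rw [Category.assoc, Category.id_comp, hφ, ← Category.assoc, hψ', Category.assoc, hba n, π_tr]

end Clean

/-- pro-isomorphic systems have isomorphic limits, compatibly with the pro-isomorphism -/
theorem exists_limit_iso {X Y : ℕᵒᵖ ⥤ C} [HasLimit X] [HasLimit Y] (m : ℕ → ℕ) (hm : Monotone m)
    (hle : ∀ n, n ≤ m n) (a : DerCA.reindex X hm ⟶ Y) (ha : DerCA.IsProIso a) :
    ∃ e : limit X ≅ limit Y, ∀ n,
      e.hom ≫ limit.π Y (op n) = limit.π X (op (m n)) ≫ a.app (op n) := by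
  refine exists_limit_iso_aux X Y m hm hle (fun n => a.app (op n)) ?_ ?_
  · intro k l h
    exact (a.naturality (homOfLE h).op).symm
  · intro n
    obtain ⟨k, hnk, b, hab, hba⟩ := ha n
    exact ⟨k, hnk, b, hab, hba⟩

end Groth.Agent.Lib.Helper23.ProLimit
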