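import Groth.Agent.Lib.Helper2.EssConst
import Groth.Prelude.Def_Algz

/-!
# A system of modules pro-isomorphic to a strict system is Mittag-Leffler (helper23)
-/

set_option autoImplicit false
universe u
open CategoryTheory CategoryTheory.Limits Opposite

namespace Groth.Agent.Lib.Helper23.ProML

open Groth.Agent.Lib.Helper2.EssConst

variable {A : Type u} [CommRing A] (X Y : ℕᵒᵖ ⥤ ModuleCat.{u} A)

/-- the clean form -/
theorem isML_aux (m : ℕ → ℕ) (hm : Monotone m) (hle : ∀ n, n ≤ m n)
    (a : ∀ k, X.obj (op (m k)) →ₗ[A] Y.obj (op k))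
    (hnat : ∀ (k l : ℕ) (h : k ≤ l) (x : X.obj (op (m l))), a k (t X (hm h) x) = t Y h (a l x))
    (ha : ∀ n, ∃ (k : ℕ) (h : n ≤ k) (b : Y.obj (op k) →ₗ[A] X.obj (op (m n))),
      (∀ x, b (a k x) = t X (hm h) x) ∧ (∀ y, a n (b y) = t Y h y))
    (hY : ∀ (n m : ℕ) (h : n ≤ m), Function.Surjective (t Y h)) : ARSys.IsML X := by
  intro n
  obtain ⟨k, hnk, b, hab, hba⟩ := ha n
  -- the eventual image is the image of `b` followed by the transition map
  have hnmn : n ≤ m n := hle n
  have hmnk : m n ≤ m k := hm hnk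
  have key : ∀ N : ℕ, ∀ hN : m k ≤ N,
      LinearMap.range (t X (hnmn.trans (hmnk.trans hN))) =
        LinearMap.range ((t X hnmn).comp b) := by
    intro N hN
    apply le_antisymm
    · rintro _ ⟨x, rfl⟩
      refine ⟨a k (t X hN x), ?_⟩
      rw [LinearMap.comp_apply, hab, t_t, t_t]
    · rintro _ ⟨y, rfl⟩
      -- pro-iso at level `N`
      obtain ⟨k'', hk'', b', hab', hba'⟩ := ha N
      have hkN : k ≤ N := (hle k).trans hN
      obtain ⟨y'', hy''⟩ := hY k k'' (hkN.trans hk'') y
      refine ⟨t X (hle N) (b' y''), ?_⟩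
      have e2 := hnat k N hkN (b' y'')
      rw [hba', t_t, hy''] at e2
      rw [LinearMap.comp_apply, ← e2, hab, t_t, t_t, t_t]
  have hnmk : n ≤ m k := hnmn.trans hmnk
  obtain ⟨r, hr⟩ := Nat.exists_eq_add_of_le hnmk
  refine ⟨r, fun s hrs => ?_⟩
  apply imageSubobject_eq_of_range_eq
  have h1 := key (n + s) (by omega)
  have h2 := key (n + r) (by omega)
  exact h1.trans h2.symm

/-- an inverse system of modules which is pro-isomorphic to a system with surjective transition maps
satisfies the Mittag-Leffler condition -/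
theorem isML_of_isProIsomorphic (h : Algz.IsProIsomorphic X Y)
    (hY : ∀ (n m : ℕ) (h : n ≤ m), Function.Surjective (t Y h)) : ARSys.IsML X := by
  obtain ⟨m, hm, hle, a, ha⟩ := h
  refine isML_aux X Y m hm hle (fun k => (a.app (op k)).hom) ?_ ?_ hY
  · intro k l h x
    exact congrArg (fun φ => φ.hom x) (a.naturality (homOfLE h).op)
  · intro n
    obtain ⟨k, hnk, b, hab, hba⟩ := ha n
    refine ⟨k, hnk, b.hom, fun x => ?_, fun y => ?_⟩
    · exact congrArg (fun φ => φ.hom x) hab
    · exact congrArg (fun φ => φ.hom y) hba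

end Groth.Agent.Lib.Helper23.ProML
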