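import Groth.Agent.Lib.Helper23.Formal.AffineExistence

/-!
# The module of compatible families of global sections as a limit (helper23)

For a system `G` of modules on `Spec A`, the `A`-module of compatible families of global sections is
a limit of `G ⋙ Γ` in `ModuleCat A`; for a quasi-coherent formal system the kernels of its
projections are the `I^(n+1)`-multiples.
-/

set_option autoImplicit false
universe u
open CategoryTheory CategoryTheory.Limits AlgebraicGeometry Opposite

namespace Groth.Agent.Lib.Helper23.FQuot

variable (A : Type u) [CommRing A]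

attribute [local instance] specOverSelf secModule

variable (G : ℕᵒᵖ ⥤ (Spec (CommRingCat.of A)).Modules)

/-- the module of compatible families of global sections -/
noncomputable def Lmod : ModuleCat.{u} A := ModuleCat.of A (AdicLimit.L (secT (A := A) G ⊤))

/-- the projections -/
noncomputable def pΓ (n : ℕ) :
    Lmod A G ⟶ (moduleSpecΓFunctor (R := CommRingCat.of A)).obj (G.obj (op n)) :=
  ModuleCat.ofHom (R := A) (X := AdicLimit.L (secT (A := A) G ⊤))
    (Y := (moduleSpecΓFunctor (R := CommRingCat.of A)).obj (G.obj (op n)))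
    { toFun := fun x => AdicLimit.p (secT (A := A) G ⊤) n x
      map_add' := fun x y => map_add _ x y
      map_smul' := fun a x => by
        rw [map_smul]
        exact smul_eq_smul A (G.obj (op n)) a _ }

theorem pΓ_apply (n : ℕ) (x : AdicLimit.L (secT (A := A) G ⊤)) : (pΓ A G n).hom x = x.1 n := rfl

theorem pΓ_comp (n : ℕ) :
    pΓ A G (n + 1) ≫ (G ⋙ moduleSpecΓFunctor (R := CommRingCat.of A)).map
      (homOfLE (Nat.le_succ n)).op = pΓ A G n := by
  ext x
  exact x.2 n

/-- the cone -/
noncomputable def coneΓ : Cone (G ⋙ moduleSpecΓFunctor (R := CommRingCat.of A)) where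
  pt := Lmod A G
  π := NatTrans.ofOpSequence (fun n => pΓ A G n) (fun n => by
    dsimp only [Functor.const_obj_obj, Functor.const_obj_map]
    rw [Category.id_comp]
    exact (pΓ_comp A G n).symm)

theorem coneΓ_π (n : ℕ) : (coneΓ A G).π.app (op n) = pΓ A G n := rfl

/-- the lift of a cone -/
noncomputable def liftΓ (s : Cone (G ⋙ moduleSpecΓFunctor (R := CommRingCat.of A))) :
    s.pt ⟶ Lmod A G :=
  ModuleCat.ofHom (R := A) (Y := AdicLimit.L (secT (A := A) G ⊤))
    { toFun := fun x => ⟨fun n => (s.π.app (op n)).hom x, fun n => by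
        have := congrArg (fun φ => φ.hom x) (s.w (homOfLE (Nat.le_succ n)).op)
        exact this⟩
      map_add' := fun x y => by
        apply Subtype.ext
        funext n
        exact map_add _ x y
      map_smul' := fun a x => by
        apply Subtype.ext
        funext n
        show (s.π.app (op n)).hom (a • x) =
          (a • (show Γ(G.obj (op n), ⊤) from (s.π.app (op n)).hom x) : Γ(G.obj (op n), ⊤))
        rw [map_smul]
        exact (smul_eq_smul A (G.obj (op n)) a _).symm }

theorem liftΓ_apply (s : Cone (G ⋙ moduleSpecΓFunctor (R := CommRingCat.of A))) (x : s.pt)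
    (n : ℕ) : ((liftΓ A G s).hom x).1 n = (s.π.app (op n)).hom x := rfl

/-- the cone of compatible families is a limit cone -/
noncomputable def isLimitConeΓ : IsLimit (coneΓ A G) where
  lift s := liftΓ A G s
  fac s := by
    rintro ⟨n⟩
    ext x
    rfl
  uniq s f hf := by
    ext x
    apply Subtype.ext
    funext n
    have := congrArg (fun φ => φ.hom x) (hf (op n))
    exact this

variable {A G}

theorem ker_pΓ {I : Ideal A} (hI : I.FG) (hG : Formal2.IsQCohFormal I G) (n : ℕ) :
    LinearMap.ker (pΓ A G n).hom =
      I ^ (n + 1) • (⊤ : Submodule A (AdicLimit.L (secT (A := A) G ⊤))) := by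
  have hU : IsAffineOpen (⊤ : (Spec (CommRingCat.of A)).Opens) := isAffineOpen_top _
  rw [← AdicLimit.ker_p_eq (secT (A := A) G ⊤) (secT_refl G ⊤) (secT_trans G ⊤)
    (secT_surjective hG hU) I (fun m => sec_kill hG m) (sec_ker hI hG hU) hI n]
  rfl

theorem mem_smul_top_of_iso_aux {M N : ModuleCat.{u} A} (E : M ≅ N) (J : Ideal A) (x : M)
    (hx : E.hom.hom x ∈ J • (⊤ : Submodule A N)) : x ∈ J • (⊤ : Submodule A M) := by
  have hle2 : J • (⊤ : Submodule A N) ≤ Submodule.comap E.inv.hom (J • (⊤ : Submodule A M)) := by
    rw [Submodule.smul_le]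
    intro c hc y _
    rw [Submodule.mem_comap, map_smul]
    exact Submodule.smul_mem_smul hc trivial
  have hx2 := hle2 hx
  rw [Submodule.mem_comap] at hx2
  have hx3 : E.inv.hom (E.hom.hom x) = x := by
    have := congrArg (fun φ => φ.hom x) E.hom_inv_id
    exact this
  rw [hx3] at hx2
  exact hx2

/-- transport of the kernel statement along an isomorphism with the module of compatible families -/
theorem mem_smul_top_of_iso {I : Ideal A} (hI : I.FG) (hG : Formal2.IsQCohFormal I G)
    {M : ModuleCat.{u} A} (E : M ≅ Lmod A G) (k : ℕ) (x : M)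
    (hx : (pΓ A G k).hom (E.hom.hom x) = 0) :
    x ∈ I ^ k • (⊤ : Submodule A M) := by
  have hx1 : E.hom.hom x ∈ LinearMap.ker (pΓ A G k).hom := hx
  rw [ker_pΓ hI hG k] at hx1
  have hx2 : E.hom.hom x ∈ I ^ (k + 1) • (⊤ : Submodule A (Lmod A G)) := hx1
  have hx3 := mem_smul_top_of_iso_aux E _ x hx2
  exact Submodule.smul_mono_left (Ideal.pow_le_pow_right (Nat.le_succ k)) hx3

end Groth.Agent.Lib.Helper23.FQuot
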