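import Groth.Agent.Lib.Helper23.Formal.Restrict

/-!
# The system `(H⁰(U, G_n))~` restricted to `U` is the system `G` (helper23)
-/

set_option autoImplicit false
universe u
open CategoryTheory CategoryTheory.Limits AlgebraicGeometry Opposite

namespace Groth.Agent.Lib.Helper23.FQuot

variable (A : Type u) [CommRing A] (U : (Spec (CommRingCat.of A)).Opens)

/-- the canonical natural map `(H⁰(U, M))~|_U ⟶ M` -/
noncomputable def tildeRestrictHom :=
  Functor.whiskerLeft (Scheme.Modules.pushforward U.ι)
      (Functor.whiskerRight (Scheme.Modules.fromTildeΓNatTrans (R := CommRingCat.of A))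
        (Scheme.Modules.restrictFunctor U.ι) ≫
        (Functor.leftUnitor (Scheme.Modules.restrictFunctor U.ι)).hom) ≫
    (Scheme.Modules.restrictFunctorAdjCounitIso U.ι).hom

theorem tildeRestrictHom_app (M : (U : Scheme.{u}).Modules) :
    (tildeRestrictHom A U).app M = ((Scheme.Modules.restrictFunctor U.ι).map
      ((Scheme.Modules.fromTildeΓNatTrans (R := CommRingCat.of A)).app
        ((Scheme.Modules.pushforward U.ι).obj M)) ≫ 𝟙 _) ≫
      (Scheme.Modules.restrictFunctorAdjCounitIso U.ι).hom.app M := rfl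

variable [IsNoetherianRing A]

theorem isIso_tildeRestrictHom_app (M : (U : Scheme.{u}).Modules) [M.IsQuasicoherent] :
    IsIso ((tildeRestrictHom A U).app M) := by
  haveI : ((Scheme.Modules.pushforward U.ι).obj M).IsQuasicoherent :=
    Groth.Agent.Lib.Helper28.QCohLoc.isQuasicoherent_pushforward U.ι M
  rw [tildeRestrictHom_app]
  haveI : IsIso ((Scheme.Modules.fromTildeΓNatTrans (R := CommRingCat.of A)).app
      ((Scheme.Modules.pushforward U.ι).obj M)) :=
    @Scheme.Modules.isIso_fromTildeΓ_of_isQuasicoherent _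
      ((Scheme.Modules.pushforward U.ι).obj M) ‹_›
  infer_instance

variable (G : ℕᵒᵖ ⥤ (U : Scheme.{u}).Modules)

/-- the canonical map `(H⁰(U, G_n))~|_U ⟶ G_n` of systems -/
noncomputable def sectSysRestrictHom :
    Algz.sectSys A U G ⋙ Scheme.Modules.restrictFunctor U.ι ⟶ G :=
  Functor.whiskerLeft G (tildeRestrictHom A U)

theorem isIso_sectSysRestrictHom (hq : ∀ n, (G.obj (op n)).IsQuasicoherent) :
    IsIso (sectSysRestrictHom A U G) := by
  haveI : ∀ j : ℕᵒᵖ, IsIso ((sectSysRestrictHom A U G).app j) := by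
    intro j
    haveI : (G.obj j).IsQuasicoherent := hq j.unop
    exact isIso_tildeRestrictHom_app A U (G.obj j)
  exact NatIso.isIso_of_isIso_app _

/-- `G ≅ (H⁰(U, G_n))~|_U` for a system of quasi-coherent modules -/
noncomputable def sectSysRestrictIso (hq : ∀ n, (G.obj (op n)).IsQuasicoherent) :
    G ≅ Algz.sectSys A U G ⋙ Scheme.Modules.restrictFunctor U.ι :=
  haveI := isIso_sectSysRestrictHom A U G hq
  (asIso (sectSysRestrictHom A U G)).symm

end Groth.Agent.Lib.Helper23.FQuot
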