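import Mathlib
import Groth.Prelude.Def_Formal2

/-!
# Sections of tilde modules over basic opens (helper23)
-/

set_option autoImplicit false
universe u
open CategoryTheory CategoryTheory.Limits AlgebraicGeometry Opposite

namespace Groth.Agent.Lib.Helper23.TildeSec

variable {A : Type u} [CommRing A]

/-- the `A`-module structure on sections of a module on `Spec A` -/
@[reducible] noncomputable def modA (M : (Spec (CommRingCat.of A)).Modules)
    (U : (Spec (CommRingCat.of A)).Opens) : Module A Γ(M, U) :=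
  Scheme.Modules.instModuleCarrierCarrierObjOppositeOpensCarrierCarrierCommRingCatSpecAbPresheafOp
    (R := CommRingCat.of A) (M := M) (U := U)

attribute [local instance] modA

/-- `toOpen` as a linear map into the sections -/
noncomputable def toO (Q : ModuleCat.{u} A) (U : (Spec (CommRingCat.of A)).Opens) :
    Q →ₗ[A] Γ(tilde (R := CommRingCat.of A) Q, U) :=
  (tilde.toOpen (R := CommRingCat.of A) Q U).hom

/-- the action of a morphism of modules on sections, as an `A`-linear map -/
noncomputable def appL {M N : (Spec (CommRingCat.of A)).Modules} (φ : M ⟶ N)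
    (U : (Spec (CommRingCat.of A)).Opens) : Γ(M, U) →ₗ[A] Γ(N, U) :=
  ((modulesSpecToSheaf.map φ).1.app (op U)).hom

theorem appL_apply {M N : (Spec (CommRingCat.of A)).Modules} (φ : M ⟶ N)
    (U : (Spec (CommRingCat.of A)).Opens) (x : Γ(M, U)) : appL φ U x = φ.app U x := rfl

theorem app_smul {M N : (Spec (CommRingCat.of A)).Modules} (φ : M ⟶ N)
    (U : (Spec (CommRingCat.of A)).Opens) (a : A) (x : Γ(M, U)) :
    φ.app U (a • x) = a • φ.app U x :=
  (appL φ U).map_smul a x

theorem app_toO {Q Q' : ModuleCat.{u} A} (g : Q ⟶ Q') (U : (Spec (CommRingCat.of A)).Opens) (q : Q) :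
    (tilde.map (R := CommRingCat.of A) g).app U (toO Q U q) = toO Q' U (g.hom q) := by
  have := congrArg (fun φ => φ.hom q) (tilde.toOpen_map_app (R := CommRingCat.of A) g U)
  exact this

theorem fromTildeΓ_app_toO (N : (Spec (CommRingCat.of A)).Modules)
    (U : (Spec (CommRingCat.of A)).Opens)
    (y : ((modulesSpecToSheaf (R := CommRingCat.of A)).obj N).presheaf.obj (op ⊤)) :
    (Scheme.Modules.fromTildeΓ (R := CommRingCat.of A) N).app U
      (toO (((modulesSpecToSheaf (R := CommRingCat.of A)).obj N).presheaf.obj (op ⊤)) U y) =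
      (show Γ(N, U) from N.presheaf.map (homOfLE (le_top : U ≤ ⊤)).op y) := by
  have := congrArg (fun φ => φ.hom y)
    (Scheme.Modules.toOpen_fromTildeΓ_app (R := CommRingCat.of A) N U)
  exact this

theorem isLocalizedModule_toOpen (Q : ModuleCat.{u} A) (f : A) :
    IsLocalizedModule (Submonoid.powers f)
      (tilde.toOpen (R := CommRingCat.of A) Q (PrimeSpectrum.basicOpen f)).hom :=
  tilde.instAwayCarrierCarrierObjOppositeOpensCarrierCarrierCommRingCatSpecModuleCatPresheafModulesSheafModulesSpecToSheafOpBasicOpenHomToOpen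
    (R := CommRingCat.of A) Q f

theorem exists_pow_smul_eq_toO (Q : ModuleCat.{u} A) (f : A)
    (x : Γ(tilde (R := CommRingCat.of A) Q, PrimeSpectrum.basicOpen f)) :
    ∃ (q : Q) (k : ℕ), f ^ k • x = toO Q (PrimeSpectrum.basicOpen f) q := by
  haveI := isLocalizedModule_toOpen Q f
  obtain ⟨⟨q, ⟨s, k, rfl⟩⟩, h⟩ := IsLocalizedModule.surj (Submonoid.powers f)
    (tilde.toOpen (R := CommRingCat.of A) Q (PrimeSpectrum.basicOpen f)).hom x
  exact ⟨q, k, h⟩

theorem exists_pow_smul_eq_zero (Q : ModuleCat.{u} A) (f : A) (q : Q)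
    (h : toO Q (PrimeSpectrum.basicOpen f) q = 0) : ∃ e : ℕ, f ^ e • q = 0 := by
  haveI := isLocalizedModule_toOpen Q f
  obtain ⟨⟨s, e, rfl⟩, hs⟩ := (IsLocalizedModule.eq_zero_iff (Submonoid.powers f)
    (tilde.toOpen (R := CommRingCat.of A) Q (PrimeSpectrum.basicOpen f)).hom).1 h
  exact ⟨e, hs⟩

theorem eq_zero_of_pow_smul_eq_zero (M : (Spec (CommRingCat.of A)).Modules) (f : A) (k : ℕ)
    (x : Γ(M, PrimeSpectrum.basicOpen f)) (h : f ^ k • x = 0) : x = 0 := by
  have h1 : IsSMulRegular Γ(M, PrimeSpectrum.basicOpen f) f :=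
    Scheme.Modules.isSMulRegular_of_le_basicOpen (R := CommRingCat.of A) (M := M) le_rfl
  have h2 := h1.pow k
  apply h2
  show f ^ k • x = f ^ k • 0
  rw [h, smul_zero]

end Groth.Agent.Lib.Helper23.TildeSec
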